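import Mathlib

set_option autoImplicit false

namespace Cfsg.Agent.Lib.Helper4.GL2Conj

open Matrix

variable {F : Type*} [Field F]

/-- companion matrix of `X² - tX + d` -/
def comp (t d : F) : Matrix (Fin 2) (Fin 2) F := !![0, -d; 1, t]

theorem det_comp (t d : F) : (comp t d).det = d := by simp [comp, Matrix.det_fin_two_of]
theorem trace_comp (t d : F) : (comp t d).trace = t := by simp [comp, Matrix.trace_fin_two_of]

/-- the matrix `[v | M v]` for `v = (x, y)` -/
def cyc (M : Matrix (Fin 2) (Fin 2) F) (x y : F) : Matrix (Fin 2) (Fin 2) F :=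
  !![x, M 0 0 * x + M 0 1 * y; y, M 1 0 * x + M 1 1 * y]

theorem mul_cyc (M : Matrix (Fin 2) (Fin 2) F) (x y : F) :
    M * cyc M x y = cyc M x y * comp M.trace M.det := by
  ext i j
  fin_cases i <;> fin_cases j <;>
    simp [cyc, comp, Matrix.mul_apply, Fin.sum_univ_two, Matrix.trace_fin_two, Matrix.det_fin_two] <;> ring

theorem det_cyc (M : Matrix (Fin 2) (Fin 2) F) (x y : F) :
    (cyc M x y).det = M 1 0 * x ^ 2 + (M 1 1 - M 0 0) * x * y - M 0 1 * y ^ 2 := by
  simp [cyc, Matrix.det_fin_two_of]; ring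

theorem exists_cyc (M : Matrix (Fin 2) (Fin 2) F) (hM : ∀ c : F, M ≠ c • (1 : Matrix (Fin 2) (Fin 2) F)) :
    ∃ x y, (cyc M x y).det ≠ 0 := by
  by_contra h
  push Not at h
  have h1 := h 1 0
  have h2 := h 0 1
  have h3 := h 1 1
  rw [det_cyc] at h1 h2 h3
  have e1 : M 1 0 = 0 := by linear_combination h1
  have e2 : M 0 1 = 0 := by linear_combination -h2
  have e3 : M 1 1 = M 0 0 := by linear_combination h3 - h1 - h2
  apply hM (M 0 0)
  ext i j
  fin_cases i <;> fin_cases j <;> simp [e1, e2, e3]

theorem comp_ne_smul (t d c : F) : comp t d ≠ c • (1 : Matrix (Fin 2) (Fin 2) F) := by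
  intro h
  have := congrFun (congrFun h 1) 0
  simp [comp] at this

/-- companion matrix in `GL₂` -/
noncomputable def compGL (t : F) (d : Fˣ) : GL (Fin 2) F :=
  GeneralLinearGroup.mkOfDetNeZero (comp t d) (by rw [det_comp]; exact d.ne_zero)

theorem compGL_val (t : F) (d : Fˣ) : (compGL t d).1 = comp t d := rfl

/-- scalar matrix in `GL₂` -/
noncomputable def scGL (c : Fˣ) : GL (Fin 2) F :=
  GeneralLinearGroup.mkOfDetNeZero ((c : F) • (1 : Matrix (Fin 2) (Fin 2) F)) (by
    simp)

theorem scGL_val (c : Fˣ) : (scGL c).1 = (c : F) • (1 : Matrix (Fin 2) (Fin 2) F) := rfl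

theorem isConj_compGL (g : GL (Fin 2) F) (hg : ∀ c : F, g.1 ≠ c • (1 : Matrix (Fin 2) (Fin 2) F)) :
    IsConj g (compGL g.1.trace (GeneralLinearGroup.det g)) := by
  obtain ⟨x, y, hxy⟩ := exists_cyc g.1 hg
  let P : GL (Fin 2) F := GeneralLinearGroup.mkOfDetNeZero (cyc g.1 x y) hxy
  have h : g * P = P * compGL g.1.trace (GeneralLinearGroup.det g) := by
    apply Units.ext
    exact mul_cyc g.1 x y
  rw [isConj_iff]
  refine ⟨P⁻¹, ?_⟩
  rw [inv_inv, mul_assoc, h, inv_mul_cancel_left]

theorem trace_conj (c g : GL (Fin 2) F) : (c * g * c⁻¹).1.trace = g.1.trace := by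
  have : (c * g * c⁻¹).1 = c.1 * g.1 * (c⁻¹).1 := rfl
  rw [this, Matrix.trace_mul_comm, ← mul_assoc]
  have h2 : (c⁻¹).1 * c.1 = 1 := by
    have := congrArg Units.val (inv_mul_cancel c)
    exact this
  rw [h2, one_mul]

theorem conj_scGL (c : GL (Fin 2) F) (a : Fˣ) : c * scGL a * c⁻¹ = scGL a := by
  have h : c * scGL a = scGL a * c := by
    apply Units.ext
    change c.1 * ((a : F) • (1 : Matrix (Fin 2) (Fin 2) F)) = ((a : F) • (1 : Matrix (Fin 2) (Fin 2) F)) * c.1
    simp
  rw [h, mul_inv_cancel_right]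

/-- parametrisation of the conjugacy classes of `GL₂` -/
noncomputable def param : Fˣ ⊕ (F × Fˣ) → ConjClasses (GL (Fin 2) F)
  | Sum.inl c => ConjClasses.mk (scGL c)
  | Sum.inr (t, d) => ConjClasses.mk (compGL t d)

theorem param_bijective : Function.Bijective (param (F := F)) := by
  constructor
  · rintro (a | ⟨t, d⟩) (a' | ⟨t', d'⟩) h
    · simp only [param, ConjClasses.mk_eq_mk_iff_isConj, isConj_iff] at h
      obtain ⟨c, hc⟩ := h
      rw [conj_scGL] at hc
      have h0 : (scGL a).1 0 0 = (scGL a').1 0 0 := by rw [hc]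
      simp only [scGL_val, Matrix.smul_apply, Matrix.one_apply_eq, smul_eq_mul, mul_one] at h0
      rw [Units.ext h0]
    · exfalso
      simp only [param, ConjClasses.mk_eq_mk_iff_isConj, isConj_iff] at h
      obtain ⟨c, hc⟩ := h
      rw [conj_scGL] at hc
      exact comp_ne_smul t' d' a (congrArg Units.val hc).symm
    · exfalso
      simp only [param, ConjClasses.mk_eq_mk_iff_isConj] at h
      obtain ⟨c, hc⟩ := isConj_iff.1 h.symm
      rw [conj_scGL] at hc
      exact comp_ne_smul t d a' (congrArg Units.val hc).symm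
    · simp only [param, ConjClasses.mk_eq_mk_iff_isConj, isConj_iff] at h
      obtain ⟨c, hc⟩ := h
      have h1 := trace_conj c (compGL t d)
      rw [hc, compGL_val, compGL_val, trace_comp, trace_comp] at h1
      have h2 : GeneralLinearGroup.det (c * compGL t d * c⁻¹) = GeneralLinearGroup.det (compGL t d) := by
        rw [map_mul, map_mul, map_inv, mul_comm, inv_mul_cancel_left]
      rw [hc] at h2
      have h3 : (d' : F) = d := by
        have := congrArg Units.val h2
        simpa [compGL_val, det_comp] using this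
      rw [h1, Units.ext h3]
  · intro C
    obtain ⟨g, rfl⟩ := ConjClasses.mk_surjective C
    · by_cases hg : ∀ c : F, g.1 ≠ c • (1 : Matrix (Fin 2) (Fin 2) F)
      · refine ⟨Sum.inr (g.1.trace, GeneralLinearGroup.det g), ?_⟩
        simp only [param, ConjClasses.mk_eq_mk_iff_isConj]
        exact (isConj_compGL g hg).symm
      · push Not at hg
        obtain ⟨c, hc⟩ := hg
        have hc0 : c ≠ 0 := by
          rintro rfl
          have := g.isUnit.ne_zero
          rw [zero_smul] at hc
          exact this hc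
        refine ⟨Sum.inl (Units.mk0 c hc0), ?_⟩
        simp only [param]
        congr 1
        apply Units.ext
        rw [scGL_val, hc]
        rfl

end Cfsg.Agent.Lib.Helper4.GL2Conj
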