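import Mathlib

namespace Cfsg.Agent.Lib.Helper4.LineCount

open Module

variable {K V : Type*} [Field K] [Fintype K] [AddCommGroup V] [Module K V] [Finite V]

theorem span_eq_of_li (W : Submodule K V) (hW : finrank K W = 2) (s : Fin 2 → W)
    (hs : LinearIndependent K s) : Submodule.span K (Set.range (fun i => (s i : V))) = W := by
  have : Module.Finite K V := Module.Finite.of_finite
  have hli : LinearIndependent K (fun i => (s i : V)) := hs.map' W.subtype (Submodule.ker_subtype W)
  apply Submodule.eq_of_le_of_finrank_eq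
  · rw [Submodule.span_le]
    rintro _ ⟨i, rfl⟩
    exact (s i).2
  · rw [finrank_span_eq_card hli, hW, Fintype.card_fin]

/-- counting 2-dimensional subspaces with a property through their ordered bases. -/
theorem card_pairs (P : Submodule K V → Prop) :
    Nat.card {s : Fin 2 → V // LinearIndependent K s ∧ P (Submodule.span K (Set.range s))}
      = Nat.card {W : Submodule K V // finrank K W = 2 ∧ P W}
        * ((Fintype.card K ^ 2 - 1) * (Fintype.card K ^ 2 - Fintype.card K)) := by
  classical
  have : Module.Finite K V := Module.Finite.of_finite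
  have : Finite (Submodule K V) := Finite.of_injective (fun W : Submodule K V => (W : Set V)) SetLike.coe_injective
  have : Fintype {W : Submodule K V // finrank K W = 2 ∧ P W} := Fintype.ofFinite _
  let f : {s : Fin 2 → V // LinearIndependent K s ∧ P (Submodule.span K (Set.range s))} →
      {W : Submodule K V // finrank K W = 2 ∧ P W} :=
    fun s => ⟨Submodule.span K (Set.range s.1), by rw [finrank_span_eq_card s.2.1, Fintype.card_fin], s.2.2⟩
  rw [Nat.card_congr (Equiv.sigmaFiberEquiv f).symm, Nat.card_sigma]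
  have key : ∀ W : {W : Submodule K V // finrank K W = 2 ∧ P W},
      Nat.card {s // f s = W} = (Fintype.card K ^ 2 - 1) * (Fintype.card K ^ 2 - Fintype.card K) := by
    intro W
    have h1 := card_linearIndependent (K := K) (V := W.1) (k := 2) (by rw [W.2.1])
    rw [W.2.1, Fin.prod_univ_two] at h1
    simp only [Fin.val_zero, pow_zero, Fin.val_one, pow_one] at h1
    rw [← h1]
    apply Nat.card_congr
    refine
      { toFun := fun s => ⟨fun i => ⟨s.1.1 i, ?_⟩, ?_⟩
        invFun := fun s' => ⟨⟨fun i => (s'.1 i : V), ?_, ?_⟩, ?_⟩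
        left_inv := ?_
        right_inv := ?_ }
    · have h : Submodule.span K (Set.range s.1.1) = W.1 := congrArg Subtype.val s.2
      rw [← h]
      exact Submodule.subset_span ⟨i, rfl⟩
    · apply LinearIndependent.of_comp W.1.subtype
      exact s.1.2.1
    · exact s'.2.map' W.1.subtype (Submodule.ker_subtype _)
    · rw [span_eq_of_li W.1 W.2.1 s'.1 s'.2]
      exact W.2.2
    · apply Subtype.ext
      exact span_eq_of_li W.1 W.2.1 s'.1 s'.2
    · intro s
      rfl
    · intro s'
      rfl
  simp only [key]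
  rw [Finset.sum_const, Finset.card_univ, Nat.card_eq_fintype_card, smul_eq_mul]


theorem card_not_multiple (u : V) (hu : u ≠ 0) (r : V → Prop) (hspan : ∀ a : K, r (a • u)) :
    Nat.card {v // r v ∧ ∀ a : K, a • u ≠ v} = Nat.card {v // r v} - Fintype.card K := by
  classical
  have : Fintype V := Fintype.ofFinite V
  simp only [Nat.card_eq_fintype_card, Fintype.card_subtype]
  have h := Finset.card_filter_add_card_filter_not (s := Finset.univ.filter r) (fun v => ∃ a : K, a • u = v)
  rw [Finset.filter_filter, Finset.filter_filter] at h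
  have h1 : (Finset.univ.filter (fun v => r v ∧ ∃ a : K, a • u = v)).card = Fintype.card K := by
    rw [← Finset.card_univ (α := K)]
    symm
    apply Finset.card_bij (fun a _ => a • u)
    · intro a _
      simp only [Finset.mem_filter, Finset.mem_univ, true_and]
      exact ⟨hspan a, a, rfl⟩
    · intro a _ b _ hab
      exact smul_left_injective K hu hab
    · intro v hv
      simp only [Finset.mem_filter, Finset.mem_univ, true_and] at hv
      obtain ⟨_, a, ha⟩ := hv
      exact ⟨a, Finset.mem_univ _, ha⟩
  rw [h1] at h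
  have h2 : (Finset.univ.filter (fun v => r v ∧ ∀ a : K, a • u ≠ v))
      = (Finset.univ.filter (fun v => r v ∧ ¬ ∃ a : K, a • u = v)) := by
    apply Finset.filter_congr
    intro v _
    simp
  rw [h2]
  exact Nat.eq_sub_of_add_eq' h

theorem card_pairs_sum (g : V → Prop) (r : V → V → Prop) (N : ℕ) (hspan : ∀ u, g u → ∀ a : K, r u (a • u))
    (hN : ∀ u, u ≠ 0 → g u → Nat.card {v // r u v} = N) :
    Nat.card {s : Fin 2 → V // LinearIndependent K s ∧ g (s 0) ∧ r (s 0) (s 1)}
      = Nat.card {u : V // u ≠ 0 ∧ g u} * (N - Fintype.card K) := by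
  classical
  have : Fintype V := Fintype.ofFinite V
  have e : {s : Fin 2 → V // LinearIndependent K s ∧ g (s 0) ∧ r (s 0) (s 1)} ≃
      Σ u : {u : V // u ≠ 0 ∧ g u}, {v // r u.1 v ∧ ∀ a : K, a • u.1 ≠ v} :=
    { toFun := fun s => ⟨⟨s.1 0, s.2.1.ne_zero 0, s.2.2.1⟩, ⟨s.1 1, s.2.2.2, by
        have h := s.2.1
        have h' : s.1 = ![s.1 0, s.1 1] := by
          funext i; fin_cases i <;> rfl
        rw [h'] at h
        exact (LinearIndependent.pair_iff' (s.2.1.ne_zero 0)).1 h⟩⟩
      invFun := fun p => ⟨![p.1.1, p.2.1], (LinearIndependent.pair_iff' p.1.2.1).2 p.2.2.2, p.1.2.2, p.2.2.1⟩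
      left_inv := fun s => by
        apply Subtype.ext
        funext i; fin_cases i <;> rfl
      right_inv := fun p => rfl }
  rw [Nat.card_congr e, Nat.card_sigma]
  have key : ∀ u : {u : V // u ≠ 0 ∧ g u}, Nat.card {v // r u.1 v ∧ ∀ a : K, a • u.1 ≠ v}
      = N - Fintype.card K := by
    intro u
    rw [card_not_multiple u.1 u.2.1 (r u.1) (hspan u.1 u.2.2), hN u.1 u.2.1 u.2.2]
  simp only [key]
  rw [Finset.sum_const, Finset.card_univ, Nat.card_eq_fintype_card, smul_eq_mul]


theorem card_fiber_functional (φ : V →ₗ[K] K) (hφ : φ ≠ 0) (t : K) :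
    Nat.card {v // φ v = t} = Fintype.card K ^ (finrank K V - 1) := by
  classical
  have : Module.Finite K V := Module.Finite.of_finite
  have hsurj : Function.Surjective φ := by
    obtain ⟨x, hx⟩ : ∃ x, φ x ≠ 0 := by
      by_contra h
      push Not at h
      exact hφ (LinearMap.ext h)
    intro a
    refine ⟨(a / φ x) • x, ?_⟩
    rw [map_smul, smul_eq_mul]
    field_simp
  obtain ⟨y₀, hy₀⟩ := hsurj t
  have e : {y : V // φ y = t} ≃ LinearMap.ker φ :=
    { toFun := fun y => ⟨y.1 - y₀, by rw [LinearMap.mem_ker, map_sub, hy₀, y.2, sub_self]⟩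
      invFun := fun z => ⟨z.1 + y₀, by rw [map_add, hy₀, LinearMap.mem_ker.1 z.2, zero_add]⟩
      left_inv := fun y => by simp
      right_inv := fun z => by simp }
  rw [Nat.card_congr e, Module.natCard_eq_pow_finrank (K := K), Nat.card_eq_fintype_card]
  congr 1
  have := LinearMap.finrank_range_add_finrank_ker φ
  rw [LinearMap.range_eq_top.2 hsurj, finrank_top, Module.finrank_self] at this
  omega

/-- counting the 2-dimensional subspaces through a given vector. -/
theorem card_through (v : V) (hv : v ≠ 0) (P : Submodule K V → Prop) :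
    Nat.card {w : V // (∀ a : K, a • v ≠ w) ∧ P (Submodule.span K (Set.range ![v, w]))}
      = Nat.card {W : Submodule K V // finrank K W = 2 ∧ v ∈ W ∧ P W}
        * (Fintype.card K ^ 2 - Fintype.card K) := by
  classical
  have : Module.Finite K V := Module.Finite.of_finite
  have : Finite (Submodule K V) := Finite.of_injective (fun W : Submodule K V => (W : Set V)) SetLike.coe_injective
  have : Fintype {W : Submodule K V // finrank K W = 2 ∧ v ∈ W ∧ P W} := Fintype.ofFinite _
  let f : {w : V // (∀ a : K, a • v ≠ w) ∧ P (Submodule.span K (Set.range ![v, w]))} →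
      {W : Submodule K V // finrank K W = 2 ∧ v ∈ W ∧ P W} :=
    fun w => ⟨Submodule.span K (Set.range ![v, w.1]), by
      rw [finrank_span_eq_card ((LinearIndependent.pair_iff' hv).2 w.2.1), Fintype.card_fin],
      Submodule.subset_span ⟨0, rfl⟩, w.2.2⟩
  rw [Nat.card_congr (Equiv.sigmaFiberEquiv f).symm, Nat.card_sigma]
  have key : ∀ W : {W : Submodule K V // finrank K W = 2 ∧ v ∈ W ∧ P W},
      Nat.card {s // f s = W} = Fintype.card K ^ 2 - Fintype.card K := by
    intro W
    have hv' : (⟨v, W.2.2.1⟩ : W.1) ≠ 0 := fun h => hv (congrArg Subtype.val h)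
    have h1 := card_not_multiple (K := K) (V := W.1) ⟨v, W.2.2.1⟩ hv' (fun _ => True) (fun _ => trivial)
    have h2 : Nat.card {w : W.1 // True} = Fintype.card K ^ 2 := by
      rw [Nat.card_congr (Equiv.subtypeUnivEquiv (fun _ => trivial)), Module.natCard_eq_pow_finrank (K := K),
        W.2.1, Nat.card_eq_fintype_card]
    rw [h2] at h1
    rw [← h1]
    apply Nat.card_congr
    have hsp : ∀ w : W.1, (∀ a : K, a • (⟨v, W.2.2.1⟩ : W.1) ≠ w) →
        Submodule.span K (Set.range ![v, (w : V)]) = W.1 := by
      intro w hw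
      have := span_eq_of_li W.1 W.2.1 ![⟨v, W.2.2.1⟩, w] ((LinearIndependent.pair_iff' hv').2 hw)
      refine Eq.trans ?_ this
      congr 2
      funext i; fin_cases i <;> rfl
    refine
      { toFun := fun s => ⟨⟨s.1.1, ?_⟩, trivial, ?_⟩
        invFun := fun s' => ⟨⟨(s'.1 : V), ?_, ?_⟩, ?_⟩
        left_inv := ?_
        right_inv := ?_ }
    · have h : Submodule.span K (Set.range ![v, s.1.1]) = W.1 := congrArg Subtype.val s.2
      rw [← h]
      exact Submodule.subset_span ⟨1, rfl⟩
    · intro a ha
      exact s.1.2.1 a (congrArg Subtype.val ha)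
    · intro a ha
      exact s'.2.2 a (Subtype.ext ha)
    · rw [hsp s'.1 s'.2.2]
      exact W.2.2.2
    · apply Subtype.ext
      exact hsp s'.1 s'.2.2
    · intro s
      rfl
    · intro s'
      rfl
  simp only [key]
  rw [Finset.sum_const, Finset.card_univ, Nat.card_eq_fintype_card, smul_eq_mul]


omit [Fintype K] [Finite V] in
theorem ti_span_iff {σ : K →+* K} (B : V →ₛₗ[σ] V →ₗ[K] K) {ι : Type*} (s : ι → V) :
    (∀ u ∈ Submodule.span K (Set.range s), ∀ v ∈ Submodule.span K (Set.range s), B u v = 0)
      ↔ ∀ i j, B (s i) (s j) = 0 := by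
  constructor
  · intro h i j
    exact h _ (Submodule.subset_span ⟨i, rfl⟩) _ (Submodule.subset_span ⟨j, rfl⟩)
  · intro h u hu v hv
    have h1 : ∀ i, Submodule.span K (Set.range s) ≤ LinearMap.ker (B (s i)) := by
      intro i
      rw [Submodule.span_le]
      rintro _ ⟨j, rfl⟩
      exact h i j
    have h2 : Submodule.span K (Set.range s) ≤ LinearMap.ker (B.flip v) := by
      rw [Submodule.span_le]
      rintro _ ⟨i, rfl⟩
      exact h1 i hv
    exact h2 hu


omit [Field K] [Fintype K] [Module K V] in
theorem card_ne_zero_and (g : V → Prop) (h0 : g 0) :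
    Nat.card {u : V // u ≠ 0 ∧ g u} = Nat.card {u : V // g u} - 1 := by
  classical
  have : Fintype V := Fintype.ofFinite V
  simp only [Nat.card_eq_fintype_card, Fintype.card_subtype]
  have : (Finset.univ.filter (fun u : V => u ≠ 0 ∧ g u)) = (Finset.univ.filter (fun u : V => g u)).erase 0 := by
    ext u
    simp
  rw [this, Finset.card_erase_of_mem (by simpa using h0)]

end Cfsg.Agent.Lib.Helper4.LineCount
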