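import Mathlib
import Cfsg.Agent.Lib.Helper4.GL2Conj

set_option autoImplicit false

namespace Cfsg.Agent.Lib.Helper4.SL2Conj

open Matrix Cfsg.Agent.Lib.Helper4.GL2Conj

variable {F : Type*} [Field F]

/-- companion matrix in `SL₂` -/
def compSL (t : F) : SpecialLinearGroup (Fin 2) F := ⟨comp t 1, det_comp t 1⟩

theorem compSL_val (t : F) : (compSL t).1 = comp t 1 := rfl

/-- if the determinant of the cyclic basis matrix is (inverse of) a square, we get `SL₂`-conjugacy. -/
theorem isConj_compSL_of_sq (g : SpecialLinearGroup (Fin 2) F) (x y s : F)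
    (hs : s ^ 2 * (cyc g.1 x y).det = 1) : IsConj g (compSL g.1.trace) := by
  let P : SpecialLinearGroup (Fin 2) F := ⟨s • cyc g.1 x y, by
    rw [Matrix.det_smul, Fintype.card_fin]; exact hs⟩
  have h : g * P = P * compSL g.1.trace := by
    apply Subtype.ext
    change g.1 * (s • cyc g.1 x y) = (s • cyc g.1 x y) * comp g.1.trace 1
    rw [Matrix.mul_smul, Matrix.smul_mul, mul_cyc, g.2]
  rw [isConj_iff]
  refine ⟨P⁻¹, ?_⟩
  rw [inv_inv, mul_assoc, h, inv_mul_cancel_left]

theorem isConj_compSL [Finite F] [CharP F 2] (g : SpecialLinearGroup (Fin 2) F)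
    (hg : ∀ c : F, g.1 ≠ c • (1 : Matrix (Fin 2) (Fin 2) F)) : IsConj g (compSL g.1.trace) := by
  obtain ⟨x, y, hxy⟩ := exists_cyc g.1 hg
  obtain ⟨s, hs⟩ := FiniteField.isSquare_of_char_two (ringChar.eq F 2) ((cyc g.1 x y).det)⁻¹
  apply isConj_compSL_of_sq g x y s
  rw [sq, ← hs, inv_mul_cancel₀ hxy]

theorem trace_conj (c g : SpecialLinearGroup (Fin 2) F) : (c * g * c⁻¹).1.trace = g.1.trace := by
  have : (c * g * c⁻¹).1 = c.1 * g.1 * (c⁻¹).1 := rfl
  rw [this, Matrix.trace_mul_comm, ← mul_assoc]
  have h2 : (c⁻¹).1 * c.1 = 1 := by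
    have := congrArg Subtype.val (inv_mul_cancel c)
    exact this
  rw [h2, one_mul]

/-- parametrisation of the conjugacy classes of `SL₂` in characteristic two -/
def param : Unit ⊕ F → ConjClasses (SpecialLinearGroup (Fin 2) F)
  | Sum.inl _ => ConjClasses.mk 1
  | Sum.inr t => ConjClasses.mk (compSL t)

theorem param_bijective [Finite F] [CharP F 2] : Function.Bijective (param (F := F)) := by
  constructor
  · rintro (a | t) (a' | t') h
    · rfl
    · exfalso
      simp only [param, ConjClasses.mk_eq_mk_iff_isConj, isConj_iff] at h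
      obtain ⟨c, hc⟩ := h
      rw [mul_one, mul_inv_cancel] at hc
      apply comp_ne_smul t' 1 1
      rw [one_smul, ← compSL_val, ← hc]
      rfl
    · exfalso
      simp only [param, ConjClasses.mk_eq_mk_iff_isConj] at h
      obtain ⟨c, hc⟩ := isConj_iff.1 h.symm
      rw [mul_one, mul_inv_cancel] at hc
      apply comp_ne_smul t 1 1
      rw [one_smul, ← compSL_val, ← hc]
      rfl
    · simp only [param, ConjClasses.mk_eq_mk_iff_isConj, isConj_iff] at h
      obtain ⟨c, hc⟩ := h
      have h1 := trace_conj c (compSL t)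
      rw [hc, compSL_val, compSL_val, trace_comp, trace_comp] at h1
      rw [h1]
  · intro C
    obtain ⟨g, rfl⟩ := ConjClasses.mk_surjective C
    by_cases hg : ∀ c : F, g.1 ≠ c • (1 : Matrix (Fin 2) (Fin 2) F)
    · refine ⟨Sum.inr g.1.trace, ?_⟩
      simp only [param, ConjClasses.mk_eq_mk_iff_isConj]
      exact (isConj_compSL g hg).symm
    · push Not at hg
      obtain ⟨c, hc⟩ := hg
      have hdet := g.2
      rw [hc, Matrix.det_smul, Fintype.card_fin, Matrix.det_one, mul_one] at hdet
      have h2 : (c - 1) ^ 2 = 0 := by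
        linear_combination hdet + (1 - c) * (CharTwo.two_eq_zero : (2 : F) = 0)
      have hc1 : c = 1 := by
        have := pow_eq_zero_iff (two_ne_zero) |>.1 h2
        linear_combination this
      refine ⟨Sum.inl (), ?_⟩
      simp only [param]
      congr 1
      apply Subtype.ext
      rw [hc, hc1, one_smul]
      rfl

end Cfsg.Agent.Lib.Helper4.SL2Conj
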