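import Mathlib

set_option autoImplicit false

namespace Cfsg.Agent.Lib.Helper4.SL2Eigen

open Matrix

variable {F : Type*} [Field F]

theorem sub_one_sq (g : SpecialLinearGroup (Fin 2) F) (htr : g.1.trace = 2) : (g.1 - 1) ^ 2 = 0 := by
  have hd := g.2
  rw [Matrix.det_fin_two] at hd
  rw [Matrix.trace_fin_two] at htr
  rw [sq]
  ext i j
  fin_cases i <;> fin_cases j <;> simp [Matrix.mul_apply, Fin.sum_univ_two]
  · linear_combination g.1 0 0 * htr - hd
  · linear_combination g.1 0 1 * htr
  · linear_combination g.1 1 0 * htr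
  · linear_combination g.1 1 1 * htr - hd

/-- a unipotent element of order prime to the characteristic is trivial -/
theorem eq_one_of_trace_two (p : ℕ) [Fact p.Prime] [CharP F p] (g : SpecialLinearGroup (Fin 2) F)
    (htr : g.1.trace = 2) (hg : (orderOf g).Coprime p) : g = 1 := by
  have hp : p.Prime := Fact.out
  have h1 : (g.1 - 1) ^ p = 0 := pow_eq_zero_of_le hp.two_le (sub_one_sq g htr)
  rw [sub_pow_char_of_commute _ (Commute.one_right _), one_pow, sub_eq_zero] at h1
  have h2 : g ^ p = 1 := Subtype.ext h1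
  have h3 : orderOf g ∣ p := orderOf_dvd_of_pow_eq_one h2
  have h4 : orderOf g = 1 := Nat.eq_one_of_dvd_coprimes hg dvd_rfl h3
  exact orderOf_eq_one_iff.1 h4

/-- two independent eigenvectors with the same eigenvalue force a scalar matrix -/
theorem scalar_of_two_eigen {K : Type*} [Field K] (N : Matrix (Fin 2) (Fin 2) K) (v w : Fin 2 → K)
    (hv : N *ᵥ v = 0) (hw : N *ᵥ w = 0) (hD : v 0 * w 1 - v 1 * w 0 ≠ 0) : N = 0 := by
  have hv0 := congrFun hv 0
  have hv1 := congrFun hv 1
  have hw0 := congrFun hw 0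
  have hw1 := congrFun hw 1
  simp only [Matrix.mulVec, dotProduct, Fin.sum_univ_two, Pi.zero_apply] at hv0 hv1 hw0 hw1
  ext i j
  fin_cases i <;> fin_cases j <;> simp only [Fin.zero_eta, Fin.mk_one, Matrix.zero_apply, Fin.isValue]
  · have : N 0 0 * (v 0 * w 1 - v 1 * w 0) = 0 := by linear_combination w 1 * hv0 - v 1 * hw0
    exact (mul_eq_zero.1 this).resolve_right hD
  · have : N 0 1 * (v 0 * w 1 - v 1 * w 0) = 0 := by linear_combination v 0 * hw0 - w 0 * hv0
    exact (mul_eq_zero.1 this).resolve_right hD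
  · have : N 1 0 * (v 0 * w 1 - v 1 * w 0) = 0 := by linear_combination w 1 * hv1 - v 1 * hw1
    exact (mul_eq_zero.1 this).resolve_right hD
  · have : N 1 1 * (v 0 * w 1 - v 1 * w 0) = 0 := by linear_combination v 0 * hw1 - w 0 * hv1
    exact (mul_eq_zero.1 this).resolve_right hD

theorem exists_smul_of_det_zero {K : Type*} [Field K] (v w : Fin 2 → K) (hv : v ≠ 0)
    (hD : v 0 * w 1 - v 1 * w 0 = 0) : ∃ c : K, w = c • v := by
  by_cases h0 : v 0 = 0
  · have h1 : v 1 ≠ 0 := by
      intro h1
      apply hv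
      funext i; fin_cases i
      · exact h0
      · exact h1
    refine ⟨w 1 / v 1, ?_⟩
    rw [h0] at hD
    have hw0 : w 0 = 0 := by
      have : v 1 * w 0 = 0 := by linear_combination -hD
      exact (mul_eq_zero.1 this).resolve_left h1
    funext i; fin_cases i
    · simp [h0, hw0]
    · simp [h1]
  · refine ⟨w 0 / v 0, ?_⟩
    funext i; fin_cases i
    · simp [h0]
    · simp only [Fin.mk_one, Fin.isValue, Pi.smul_apply, smul_eq_mul]
      field_simp
      linear_combination hD

/-- a subgroup of `SL₂(F)` of elements of order prime to the characteristic, centralising a non-scalar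
element, is cyclic. -/
theorem isCyclic_of_centralizes (p : ℕ) [Fact p.Prime] [CharP F p]
    (H : Subgroup (SpecialLinearGroup (Fin 2) F)) [Finite H]
    (hH : ∀ g ∈ H, (orderOf g).Coprime p) (z : SpecialLinearGroup (Fin 2) F)
    (hz : ∀ c : F, z.1 ≠ c • (1 : Matrix (Fin 2) (Fin 2) F)) (hcomm : ∀ g ∈ H, g * z = z * g) :
    IsCyclic H := by
  classical
  let K := AlgebraicClosure F
  let ι : F →+* K := algebraMap F K
  obtain ⟨lam, hlam⟩ := Module.End.exists_eigenvalue (K := K) (Matrix.toLin' (z.1.map ι))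
  obtain ⟨v, hv⟩ := hlam.exists_hasEigenvector
  have hv0 : v ≠ 0 := hv.2
  have hzv : (z.1.map ι) *ᵥ v = lam • v := by
    have := hv.apply_eq_smul
    rwa [Matrix.toLin'_apply] at this
  have hex : ∀ g : H, ∃ c : K, (g.1.1.map ι) *ᵥ v = c • v := by
    intro g
    apply exists_smul_of_det_zero v _ hv0
    by_contra hD
    have hzw : (z.1.map ι) *ᵥ ((g.1.1.map ι) *ᵥ v) = lam • ((g.1.1.map ι) *ᵥ v) := by
      have hc : z.1.map ι * g.1.1.map ι = g.1.1.map ι * z.1.map ι := by
        rw [← Matrix.map_mul, ← Matrix.map_mul]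
        congr 1
        exact (congrArg Subtype.val (hcomm g.1 g.2)).symm
      rw [Matrix.mulVec_mulVec, hc, ← Matrix.mulVec_mulVec, hzv, Matrix.mulVec_smul]
    have hN := scalar_of_two_eigen (z.1.map ι - lam • 1) v ((g.1.1.map ι) *ᵥ v)
      (by rw [Matrix.sub_mulVec, hzv, Matrix.smul_mulVec, Matrix.one_mulVec, sub_self])
      (by rw [Matrix.sub_mulVec, hzw, Matrix.smul_mulVec, Matrix.one_mulVec, sub_self]) hD
    have hzl : z.1.map ι = lam • 1 := sub_eq_zero.1 hN
    apply hz (z.1 0 0)
    have e00 := congrFun (congrFun hzl 0) 0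
    have e01 := congrFun (congrFun hzl 0) 1
    have e10 := congrFun (congrFun hzl 1) 0
    have e11 := congrFun (congrFun hzl 1) 1
    simp at e00 e01 e10 e11
    ext i j
    fin_cases i <;> fin_cases j
    · simp
    · simpa using e01
    · simpa using e10
    · simp only [Fin.mk_one, Fin.isValue, Matrix.smul_apply, Matrix.one_apply_eq, smul_eq_mul, mul_one]
      apply ι.injective
      rw [e11, e00]
  choose χ hχ using hex
  have huniq : ∀ a b : K, a • v = b • v → a = b := by
    intro a b hab
    have : (a - b) • v = 0 := by rw [sub_smul, hab, sub_self]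
    rcases smul_eq_zero.1 this with h | h
    · exact sub_eq_zero.1 h
    · exact absurd h hv0
  let f : H →* K :=
    { toFun := χ
      map_one' := by
        apply huniq
        rw [← hχ, one_smul]
        simp
      map_mul' := by
        intro a b
        apply huniq
        rw [← hχ]
        have : ((a * b : H).1.1).map ι = a.1.1.map ι * b.1.1.map ι := by
          simp [Matrix.map_mul]
        rw [this, ← Matrix.mulVec_mulVec, hχ, Matrix.mulVec_smul, hχ, smul_smul, mul_comm] }
  apply isCyclic_of_injective_ringHom f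
  rw [injective_iff_map_eq_one]
  intro g hg
  have hg1 : χ g = 1 := hg
  have h1 := hχ g
  rw [hg1, one_smul] at h1
  have hdet : (g.1.1.map ι - 1).det = 0 := by
    rw [← Matrix.exists_mulVec_eq_zero_iff]
    exact ⟨v, hv0, by rw [Matrix.sub_mulVec, h1, Matrix.one_mulVec, sub_self]⟩
  have hd := g.1.2
  rw [Matrix.det_fin_two] at hd hdet
  simp at hdet
  have htr : g.1.1.trace = 2 := by
    apply ι.injective
    rw [Matrix.trace_fin_two, map_add, map_ofNat]
    have hd' := congrArg ι hd
    simp only [map_sub, map_mul, map_one] at hd'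
    linear_combination hd' - hdet
  exact Subtype.ext (eq_one_of_trace_two p g.1 htr (hH g.1 g.2))

end Cfsg.Agent.Lib.Helper4.SL2Eigen
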