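import Mathlib
import Cfsg.Agent.Lib.Helper4.SL2Eigen
import Cfsg.Agent.Lib.Helper4.SL2Conj

set_option autoImplicit false

namespace Cfsg.Agent.Lib.Helper4.PSL2Spec

open Matrix Cfsg.Agent.Lib.Helper4.SL2Eigen Cfsg.Agent.Lib.Helper4.SL2Conj Cfsg.Agent.Lib.Helper4.GL2Conj

variable {F : Type*} [Field F]

theorem map_pow_mulVec {K : Type*} [Field K] (ι : F →+* K) (g : SpecialLinearGroup (Fin 2) F) (v : Fin 2 → K)
    (lam : K) (hgv : (g.1.map ι) *ᵥ v = lam • v) (n : ℕ) : ((g ^ n).1.map ι) *ᵥ v = lam ^ n • v := by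
  induction n with
  | zero => simp
  | succ n ih =>
    have : ((g ^ (n + 1)).1).map ι = (g ^ n).1.map ι * g.1.map ι := by
      rw [← Matrix.map_mul]
      congr 1
    rw [this, ← Matrix.mulVec_mulVec, hgv, Matrix.mulVec_smul, ih, smul_smul, pow_succ, mul_comm]

/-- independent eigenvectors -/
theorem det_ne_zero_of_eigen {K : Type*} [Field K] (M : Matrix (Fin 2) (Fin 2) K) (v w : Fin 2 → K) (a b : K)
    (hab : a ≠ b) (hv0 : v ≠ 0) (hw0 : w ≠ 0) (hv : M *ᵥ v = a • v) (hw : M *ᵥ w = b • w) :
    v 0 * w 1 - v 1 * w 0 ≠ 0 := by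
  intro hD
  obtain ⟨c, rfl⟩ := exists_smul_of_det_zero v w hv0 hD
  rw [Matrix.mulVec_smul, hv, smul_smul, smul_smul] at hw
  have hc : c ≠ 0 := by rintro rfl; simp at hw0
  have : (c * (a - b)) • v = 0 := by
    rw [mul_sub, sub_smul, hw, mul_comm, sub_self]
  rcases smul_eq_zero.1 this with h | h
  · rcases mul_eq_zero.1 h with h | h
    · exact hc h
    · exact hab (sub_eq_zero.1 h)
  · exact hv0 h

/-- every element of `SL₂(q)` has order dividing `q-1` or `q+1`, or trace `±2`. -/
theorem trichotomy [Fintype F] {q : ℕ} (hF : Fintype.card F = q) (g : SpecialLinearGroup (Fin 2) F) :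
    g ^ (q - 1) = 1 ∨ g ^ (q + 1) = 1 ∨ g.1.trace = 2 ∨ g.1.trace = -2 := by
  classical
  obtain ⟨p, hpc⟩ := CharP.exists F
  obtain ⟨k, hp, hk⟩ := FiniteField.card F p
  have : Fact p.Prime := ⟨hp⟩
  let K := AlgebraicClosure F
  let ι : F →+* K := algebraMap F K
  have : CharP K p := charP_of_injective_algebraMap ι.injective p
  obtain ⟨lam, hlam⟩ := Module.End.exists_eigenvalue (K := K) (Matrix.toLin' (g.1.map ι))
  obtain ⟨v, hv⟩ := hlam.exists_hasEigenvector
  have hv0 : v ≠ 0 := hv.2
  have hgv : (g.1.map ι) *ᵥ v = lam • v := by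
    have := hv.apply_eq_smul
    rwa [Matrix.toLin'_apply] at this
  have hd := g.2
  rw [Matrix.det_fin_two] at hd
  have hd' := congrArg ι hd
  simp only [map_sub, map_mul, map_one] at hd'
  have hdetx : ∀ x : K, (g.1.map ι - x • 1).det = x ^ 2 - ι g.1.trace * x + 1 := by
    intro x
    rw [Matrix.det_fin_two, Matrix.trace_fin_two, map_add]
    simp
    linear_combination hd'
  have hquad : lam ^ 2 - ι g.1.trace * lam + 1 = 0 := by
    rw [← hdetx, ← Matrix.exists_mulVec_eq_zero_iff]
    exact ⟨v, hv0, by rw [Matrix.sub_mulVec, hgv, Matrix.smul_mulVec, Matrix.one_mulVec, sub_self]⟩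
  have hlam0 : lam ≠ 0 := by
    rintro rfl
    simp at hquad
  have hq : q = p ^ (k : ℕ) := by rw [← hF, hk]
  have hquad' : (lam ^ q) ^ 2 - ι g.1.trace * lam ^ q + 1 = 0 := by
    have := congrArg (iterateFrobenius K p k) hquad
    simp only [map_add, map_sub, map_mul, map_pow, map_one, map_zero, iterateFrobenius_def] at this
    rw [← hq] at this
    have ht : ι g.1.trace ^ q = ι g.1.trace := by
      rw [← map_pow, ← hF, FiniteField.pow_card]
    rw [ht] at this
    exact this
  have hprod : (lam ^ q - lam) * (lam ^ q * lam - 1) = 0 := by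
    linear_combination lam * hquad' - lam ^ q * hquad
  have hq1 : 1 ≤ q := by rw [hq]; exact Nat.one_le_pow _ _ hp.pos
  by_cases hl2 : lam ^ 2 = 1
  · right; right
    have h1 : (lam - 1) * (lam + 1) = 0 := by linear_combination hl2
    rcases mul_eq_zero.1 h1 with h | h
    · left
      apply ι.injective
      have hl : lam = 1 := by linear_combination h
      rw [hl] at hquad
      rw [map_ofNat]
      linear_combination -hquad
    · right
      apply ι.injective
      have hl : lam = -1 := by linear_combination h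
      rw [hl] at hquad
      rw [map_neg, map_ofNat]
      linear_combination hquad
  · -- second eigenvector
    have hdet2 : (g.1.map ι - lam⁻¹ • 1).det = 0 := by
      rw [hdetx]
      have h1 : lam * lam⁻¹ = 1 := mul_inv_cancel₀ hlam0
      linear_combination (lam⁻¹) ^ 2 * hquad + (-(lam * lam⁻¹) - 1 + ι g.1.trace * lam⁻¹) * h1
    obtain ⟨w, hw0, hw⟩ := Matrix.exists_mulVec_eq_zero_iff.2 hdet2
    have hgw : (g.1.map ι) *ᵥ w = lam⁻¹ • w := by
      rw [Matrix.sub_mulVec, Matrix.smul_mulVec, Matrix.one_mulVec, sub_eq_zero] at hw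
      exact hw
    have hne : lam ≠ lam⁻¹ := by
      intro h
      apply hl2
      rw [sq]
      nth_rewrite 2 [h]
      exact mul_inv_cancel₀ hlam0
    have hD := det_ne_zero_of_eigen _ v w lam lam⁻¹ hne hv0 hw0 hgv hgw
    have key : ∀ n : ℕ, lam ^ n = 1 → g ^ n = 1 := by
      intro n hn
      have h1 := map_pow_mulVec ι g v lam hgv n
      have h2 := map_pow_mulVec ι g w lam⁻¹ hgw n
      rw [hn, one_smul] at h1
      rw [inv_pow, hn, inv_one, one_smul] at h2
      have hN := scalar_of_two_eigen ((g ^ n).1.map ι - 1) v w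
        (by rw [Matrix.sub_mulVec, h1, Matrix.one_mulVec, sub_self])
        (by rw [Matrix.sub_mulVec, h2, Matrix.one_mulVec, sub_self]) hD
      apply Subtype.ext
      apply Matrix.map_injective ι.injective
      change (g ^ n).1.map ι = (1 : Matrix (Fin 2) (Fin 2) F).map ι
      rw [sub_eq_zero.1 hN]
      simp
    rcases mul_eq_zero.1 hprod with h | h
    · left
      apply key
      have : lam ^ (q - 1) * lam = lam := by
        rw [← pow_succ, Nat.sub_add_cancel hq1]; exact sub_eq_zero.1 h
      exact mul_right_cancel₀ hlam0 (by rw [this, one_mul])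
    · right; left
      apply key
      rw [pow_succ]; exact sub_eq_zero.1 h

/-- `-1` in `SL₂` -/
def negOne (F : Type*) [Field F] : SpecialLinearGroup (Fin 2) F := ⟨-1, by simp [Matrix.det_neg]⟩

theorem negOne_mem_center : negOne F ∈ Subgroup.center (SpecialLinearGroup (Fin 2) F) := by
  rw [Matrix.SpecialLinearGroup.mem_center_iff]
  refine ⟨-1, by simp, ?_⟩
  rw [map_neg, map_one]; rfl

theorem mem_center_of_sq_eq_one (h2 : (2 : F) ≠ 0) (h : SpecialLinearGroup (Fin 2) F) (hh : h * h = 1) :
    h ∈ Subgroup.center (SpecialLinearGroup (Fin 2) F) := by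
  have hd := h.2
  rw [Matrix.det_fin_two] at hd
  have hm : h.1 * h.1 = 1 := congrArg Subtype.val hh
  have e00 := congrFun (congrFun hm 0) 0
  have e01 := congrFun (congrFun hm 0) 1
  have e10 := congrFun (congrFun hm 1) 0
  have e11 := congrFun (congrFun hm 1) 1
  simp [Matrix.mul_apply, Fin.sum_univ_two] at e00 e01 e10 e11
  rw [Matrix.SpecialLinearGroup.mem_center_iff]
  have had : h.1 0 0 = h.1 1 1 := by
    linear_combination (-(h.1 0 0)) * hd + h.1 1 1 * e00 - h.1 1 0 * e01
  have hbc : h.1 0 1 * h.1 1 0 = 0 := by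
    have : 2 * (h.1 0 1 * h.1 1 0) = 0 := by linear_combination e00 - hd - h.1 0 0 * had
    exact (mul_eq_zero.1 this).resolve_left h2
  have ha2 : h.1 0 0 * h.1 0 0 = 1 := by linear_combination e00 - hbc
  have hab : h.1 0 0 * h.1 0 1 = 0 := by
    have : 2 * (h.1 0 0 * h.1 0 1) = 0 := by linear_combination e01 + h.1 0 1 * had
    exact (mul_eq_zero.1 this).resolve_left h2
  have hac : h.1 0 0 * h.1 1 0 = 0 := by
    have : 2 * (h.1 0 0 * h.1 1 0) = 0 := by linear_combination e10 + h.1 1 0 * had
    exact (mul_eq_zero.1 this).resolve_left h2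
  have hb : h.1 0 1 = 0 := by linear_combination h.1 0 0 * hab - h.1 0 1 * ha2
  have hc : h.1 1 0 = 0 := by linear_combination h.1 0 0 * hac - h.1 1 0 * ha2
  refine ⟨h.1 0 0, ?_, ?_⟩
  · rw [Fintype.card_fin]
    linear_combination ha2
  · ext i j
    fin_cases i <;> fin_cases j <;> simp [hb, hc, had]

variable [Fintype F]

/-- element orders of `PSL₂(q)`: upper bound -/
theorem orderOf_dvd (p : ℕ) [Fact p.Prime] [CharP F p] (x : ProjectiveSpecialLinearGroup (Fin 2) F) :
    orderOf x ∣ p ∨ orderOf x ∣ (Fintype.card F - 1) / Nat.gcd 2 (Fintype.card F - 1) ∨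
      orderOf x ∣ (Fintype.card F + 1) / Nat.gcd 2 (Fintype.card F - 1) := by
  classical
  have hp : p.Prime := Fact.out
  obtain ⟨g, rfl⟩ := QuotientGroup.mk_surjective x
  set q := Fintype.card F with hq
  have hq1 : 1 ≤ q := Fintype.card_pos
  have half : ∀ n : ℕ, g ^ n = 1 → (n % 2 = (q - 1) % 2) →
      orderOf (QuotientGroup.mk g : ProjectiveSpecialLinearGroup (Fin 2) F) ∣ n / Nat.gcd 2 (q - 1) := by
    intro n hn hpar
    apply orderOf_dvd_of_pow_eq_one
    rw [← QuotientGroup.mk_pow, QuotientGroup.eq_one_iff]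
    rcases Nat.even_or_odd (q - 1) with he | ho
    · have hg2 : Nat.gcd 2 (q - 1) = 2 := Nat.gcd_eq_left he.two_dvd
      rw [hg2]
      have h2 : (2 : F) ≠ 0 := by
        apply Ring.two_ne_zero
        rw [Ne, FiniteField.even_card_iff_char_two]
        have := Nat.even_iff.1 he
        omega
      apply mem_center_of_sq_eq_one h2
      rw [← pow_add]
      have : n / 2 + n / 2 = n := by
        have := Nat.even_iff.1 he
        omega
      rw [this, hn]
    · have hg2 : Nat.gcd 2 (q - 1) = 1 := by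
        exact Nat.coprime_two_left.2 ho
      rw [hg2, Nat.div_one, hn]
      exact Subgroup.one_mem _
  rcases trichotomy hq.symm g with h | h | h | h
  · right; left
    exact half _ h rfl
  · right; right
    exact half _ h (by omega)
  · left
    apply orderOf_dvd_of_pow_eq_one
    rw [← QuotientGroup.mk_pow]
    have h1 : (g.1 - 1) ^ p = 0 := pow_eq_zero_of_le hp.two_le (sub_one_sq g h)
    rw [sub_pow_char_of_commute _ (Commute.one_right _), one_pow, sub_eq_zero] at h1
    have h2 : g ^ p = 1 := Subtype.ext h1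
    rw [h2]; rfl
  · left
    apply orderOf_dvd_of_pow_eq_one
    have hmk : (QuotientGroup.mk g : ProjectiveSpecialLinearGroup (Fin 2) F) = QuotientGroup.mk (negOne F * g) := by
      rw [QuotientGroup.mk_mul, (QuotientGroup.eq_one_iff _).2 negOne_mem_center, one_mul]
    rw [hmk, ← QuotientGroup.mk_pow]
    have htr : (negOne F * g).1.trace = 2 := by
      have : (negOne F * g).1 = -g.1 := by
        change (-1 : Matrix (Fin 2) (Fin 2) F) * g.1 = -g.1
        simp
      rw [this, Matrix.trace_neg, h, neg_neg]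
    have h1 : ((negOne F * g).1 - 1) ^ p = 0 := pow_eq_zero_of_le hp.two_le (sub_one_sq _ htr)
    rw [sub_pow_char_of_commute _ (Commute.one_right _), one_pow, sub_eq_zero] at h1
    have h2 : (negOne F * g) ^ p = 1 := Subtype.ext h1
    rw [h2]; rfl

end Cfsg.Agent.Lib.Helper4.PSL2Spec
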