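import Mathlib
import Cfsg.Prelude.Def_Classical
import Cfsg.Agent.S0754

namespace Cfsg.Agent.Lib.Helper4.UniCount

variable {F : Type*} [Field F] [Fintype F] {q : ℕ}

theorem two_le_q (hF : Fintype.card F = q ^ 2) : 2 ≤ q := by
  have h1 : 1 < Fintype.card F := Fintype.one_lt_card
  rw [hF] at h1
  by_contra hlt
  have : q ≤ 1 := by omega
  have : q ^ 2 ≤ 1 ^ 2 := Nat.pow_le_pow_left this 2
  omega

theorem exists_sig (hF : Fintype.card F = q ^ 2) : ∃ σ : F →+* F, ∀ x, σ x = x ^ q := by
  obtain ⟨p, hp⟩ := CharP.exists F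
  obtain ⟨k, hpp, hk⟩ := FiniteField.card F p
  have : Fact p.Prime := ⟨hpp⟩
  have hd : q ∣ p ^ (k : ℕ) := by
    rw [← hk, hF]; exact Dvd.intro_left (q ^ 1) (by ring)
  obtain ⟨j, -, rfl⟩ := (Nat.dvd_prime_pow hpp).1 hd
  exact ⟨iterateFrobenius F p j, fun x => iterateFrobenius_def p j x⟩

theorem pow_q_q (hF : Fintype.card F = q ^ 2) (x : F) : (x ^ q) ^ q = x := by
  rw [← pow_mul, ← sq, ← hF, FiniteField.pow_card]

theorem sig_ne_id (hF : Fintype.card F = q ^ 2) : ∃ x : F, x ^ q ≠ x := by
  classical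
  by_contra h
  push Not at h
  have hq := two_le_q hF
  obtain ⟨g, hg⟩ := IsCyclic.exists_generator (α := Fˣ)
  have ho : orderOf g = q ^ 2 - 1 := by
    rw [orderOf_eq_card_of_forall_mem_zpowers hg, Nat.card_eq_fintype_card, Fintype.card_units, hF]
  have h1 : g ^ (q - 1) = 1 := by
    apply Units.ext
    have h2 : (g : F) ^ (q - 1) * g = 1 * g := by
      rw [← pow_succ, one_mul, Nat.sub_add_cancel (by omega), h]
    simpa using mul_right_cancel₀ g.ne_zero h2
  have h3 := orderOf_dvd_of_pow_eq_one h1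
  rw [ho] at h3
  have h4 := Nat.le_of_dvd (by omega) h3
  have : q ^ 2 ≥ 2 * q := by nlinarith
  omega


/-- number of solutions of `Σ v_i^(q+1) = c`. -/
noncomputable def A (F : Type*) [Field F] (q n : ℕ) (c : F) : ℕ :=
  Nat.card {v : Fin n → F // ∑ i, v i ^ (q + 1) = c}

theorem A_succ (n : ℕ) (c : F) : A F q (n + 1) c = ∑ x : F, A F q n (c - x ^ (q + 1)) := by
  classical
  unfold A
  simp only [Nat.card_eq_fintype_card]
  rw [← Fintype.card_sigma]
  apply Fintype.card_congr
  refine
    { toFun := fun v => ⟨v.1 0, ⟨Fin.tail v.1, ?_⟩⟩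
      invFun := fun p => ⟨Fin.cons p.1 p.2.1, ?_⟩
      left_inv := ?_
      right_inv := ?_ }
  · have := v.2
    rw [Fin.sum_univ_succ] at this
    rw [eq_sub_iff_add_eq, add_comm]
    exact this
  · rw [Fin.sum_univ_succ]
    simp [p.2.2]
  · intro v
    apply Subtype.ext
    simp
  · rintro ⟨x, v, hv⟩
    rfl


theorem sum_ite_const {α : Type*} [Fintype α] (P : α → Prop) [DecidablePred P] (a b : ℤ) :
    ∑ x, (if P x then a else b)
      = (Fintype.card {x // P x} : ℤ) * a + ((Fintype.card α : ℤ) - Fintype.card {x // P x}) * b := by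
  have h := Finset.card_filter_add_card_filter_not (s := (Finset.univ : Finset α)) P
  rw [Finset.sum_ite, Finset.sum_const, Finset.sum_const, Fintype.card_subtype, ← Finset.card_univ, ← h]
  push_cast
  simp only [nsmul_eq_mul]
  ring

theorem norm_fixed (hF : Fintype.card F = q ^ 2) (x : F) : (x ^ (q + 1)) ^ q = x ^ (q + 1) := by
  rw [← pow_mul, mul_comm, pow_mul, pow_succ (x ^ q), pow_q_q hF, pow_succ, mul_comm]

theorem count (hF : Fintype.card F = q ^ 2) (n : ℕ) :
    ((q : ℤ) * A F q n 0 = (q : ℤ) ^ (2 * n) + (-1) ^ n * ((q : ℤ) ^ (n + 1) - (q : ℤ) ^ n)) ∧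
    ∀ c : F, c ≠ 0 → c ^ q = c → (q : ℤ) * A F q n c = (q : ℤ) ^ (2 * n) - (-1) ^ n * (q : ℤ) ^ n := by
  classical
  obtain ⟨σ, hσ⟩ := exists_sig hF
  induction n with
  | zero =>
    constructor
    · have : A F q 0 0 = 1 := by
        unfold A
        simp
      rw [this]; simp
    · intro c hc _
      have : A F q 0 c = 0 := by
        unfold A
        simp [Ne.symm hc]
      rw [this]; simp
  | succ n ih =>
    obtain ⟨ih0, ih1⟩ := ih
    constructor
    · rw [A_succ]
      push_cast
      rw [Finset.mul_sum]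
      have : ∀ x : F, (q : ℤ) * (A F q n (0 - x ^ (q + 1)) : ℤ)
          = if x = 0 then ((q : ℤ) ^ (2 * n) + (-1) ^ n * ((q : ℤ) ^ (n + 1) - (q : ℤ) ^ n))
            else ((q : ℤ) ^ (2 * n) - (-1) ^ n * (q : ℤ) ^ n) := by
        intro x
        split_ifs with hx
        · subst hx
          simpa using ih0
        · apply ih1
          · simpa using hx
          · rw [← hσ, zero_sub, map_neg, hσ, norm_fixed hF]
      simp only [this]
      rw [sum_ite_const, hF]
      simp only [Fintype.card_subtype_eq, Fintype.card_unique]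
      push_cast
      ring
    · intro c hc hcq
      rw [A_succ]
      push_cast
      rw [Finset.mul_sum]
      have : ∀ x : F, (q : ℤ) * (A F q n (c - x ^ (q + 1)) : ℤ)
          = if x ^ (q + 1) = c then ((q : ℤ) ^ (2 * n) + (-1) ^ n * ((q : ℤ) ^ (n + 1) - (q : ℤ) ^ n))
            else ((q : ℤ) ^ (2 * n) - (-1) ^ n * (q : ℤ) ^ n) := by
        intro x
        split_ifs with hx
        · rw [hx, sub_self]
          exact ih0
        · apply ih1
          · rw [sub_ne_zero]; exact Ne.symm hx
          · rw [← hσ, map_sub, hσ, hσ, norm_fixed hF, hcq]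
      simp only [this]
      have h754 := Cfsg.Agent.S0754.result hF c hc hcq
      rw [Nat.card_eq_fintype_card] at h754
      rw [sum_ite_const, hF, h754]
      push_cast
      ring


theorem hermForm_self (n : ℕ) (v : Fin n → F) : Cfsg.hermForm n F q v v = ∑ i, v i ^ (q + 1) := by
  unfold Cfsg.hermForm
  exact Finset.sum_congr rfl (fun i _ => (pow_succ' _ _).symm)

/-- the number of vectors of norm one. -/
def u (q n : ℕ) : ℕ := if Even n then q ^ (n - 1) * (q ^ n - 1) else q ^ (n - 1) * (q ^ n + 1)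

theorem A_eq_u (hF : Fintype.card F = q ^ 2) (n : ℕ) (c : F) (hc : c ≠ 0) (hcq : c ^ q = c) :
    A F q n c = u q n := by
  have hq := two_le_q hF
  have h := (count hF n).2 c hc hcq
  have hq0 : (q : ℤ) ≠ 0 := by positivity
  unfold u
  cases n with
  | zero =>
    simp only [mul_zero, pow_zero, mul_one, sub_self, mul_eq_zero, hq0, false_or] at h
    simp
    exact_mod_cast h
  | succ m =>
    have h1 : 1 ≤ q ^ (m + 1) := Nat.one_le_pow _ _ (by omega)
    simp only [Nat.add_sub_cancel]
    split_ifs with he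
    · rw [he.neg_one_pow] at h
      zify [h1]
      apply mul_left_cancel₀ hq0
      rw [h]; ring
    · rw [(Nat.not_even_iff_odd.1 he).neg_one_pow] at h
      zify
      apply mul_left_cancel₀ hq0
      rw [h]; ring

theorem A_zero (hF : Fintype.card F = q ^ 2) (n : ℕ) :
    A F q n 0 = (if Even n then (q ^ n - 1) * (q ^ (n - 1) + 1) else (q ^ n + 1) * (q ^ (n - 1) - 1)) + 1 := by
  have hq := two_le_q hF
  have h := (count hF n).1
  have hq0 : (q : ℤ) ≠ 0 := by positivity
  cases n with
  | zero =>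
    simp only [mul_zero, pow_zero, zero_add, pow_one, one_mul, add_sub_cancel] at h
    simp
    have := mul_left_cancel₀ hq0 (h.trans (mul_one _).symm)
    exact_mod_cast this
  | succ m =>
    have h1 : 1 ≤ q ^ (m + 1) := Nat.one_le_pow _ _ (by omega)
    have h2 : 1 ≤ q ^ m := Nat.one_le_pow _ _ (by omega)
    simp only [Nat.add_sub_cancel]
    split_ifs with he
    · rw [he.neg_one_pow] at h
      zify [h1]
      apply mul_left_cancel₀ hq0
      rw [h]; ring
    · rw [(Nat.not_even_iff_odd.1 he).neg_one_pow] at h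
      zify [h2]
      apply mul_left_cancel₀ hq0
      rw [h]; ring

end Cfsg.Agent.Lib.Helper4.UniCount
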