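import Mathlib
import Cfsg.Prelude.Def_LieClassical
import Cfsg.Agent.Lib.Helper4.UniCount
import Cfsg.Agent.S0755

namespace Cfsg.Agent.Lib.Helper4.UniFrame

open Cfsg.Agent.Lib.Helper4.UniCount Module

variable {F : Type*} [Field F] {V : Type*} [AddCommGroup V] [Module F V] {σ : F →+* F}

/-- orthonormal families -/
def ON (B : V →ₛₗ[σ] V →ₗ[F] F) {k : ℕ} (f : Fin k → V) : Prop :=
  ∀ i j, B (f i) (f j) = if i = j then 1 else 0

/-- the orthogonal complement of a vector -/
def perp (B : V →ₛₗ[σ] V →ₗ[F] F) (v : V) : Submodule F V := LinearMap.ker (B v)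

theorem mem_perp (B : V →ₛₗ[σ] V →ₗ[F] F) (v w : V) : w ∈ perp B v ↔ B v w = 0 := LinearMap.mem_ker

theorem finrank_perp [FiniteDimensional F V] (B : V →ₛₗ[σ] V →ₗ[F] F) (v : V) (hv : B v v = 1) :
    finrank F (perp B v) + 1 = finrank F V := by
  have hsurj : Function.Surjective (B v) := by
    intro a
    exact ⟨a • v, by rw [map_smul, hv, smul_eq_mul, mul_one]⟩
  have := LinearMap.finrank_range_add_finrank_ker (B v)
  rw [LinearMap.range_eq_top.2 hsurj, finrank_top, Module.finrank_self] at this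
  unfold perp
  omega

theorem sub_mem_perp (B : V →ₛₗ[σ] V →ₗ[F] F) (v : V) (hv : B v v = 1) (x : V) :
    x - (B v x) • v ∈ perp B v := by
  rw [mem_perp, map_sub, map_smul, hv, smul_eq_mul, mul_one, sub_self]

theorem nondeg_perp (B : V →ₛₗ[σ] V →ₗ[F] F) (hS : B.IsSymm) (hB : B.Nondegenerate) (v : V)
    (hv : B v v = 1) : (B.domRestrict₁₂ (perp B v) (perp B v)).Nondegenerate := by
  have hS' : ∀ x y, σ (B x y) = B y x := LinearMap.isSymm_def.mp hS
  have key : ∀ w ∈ perp B v, (∀ w' ∈ perp B v, B w w' = 0) → w = 0 := by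
    intro w hw h
    apply hB.1
    intro x
    have hx : x = (x - (B v x) • v) + (B v x) • v := by abel
    rw [hx, map_add, h _ (sub_mem_perp B v hv x), zero_add, map_smul, ← hS' v w,
      (mem_perp B v w).1 hw, map_zero, smul_zero]
  constructor
  · intro w hw
    apply Subtype.ext
    exact key w.1 w.2 (fun w' hw' => hw ⟨w', hw'⟩)
  · intro w hw
    apply Subtype.ext
    apply key w.1 w.2
    intro w' hw'
    have := hw ⟨w', hw'⟩
    simp only [LinearMap.domRestrict₁₂_apply] at this
    rw [← hS', this, map_zero]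

/-- peel off the first vector of an orthonormal family. -/
def frameEquiv (B : V →ₛₗ[σ] V →ₗ[F] F) (hS : B.IsSymm) (k : ℕ) :
    {f : Fin (k + 1) → V // ON B f} ≃
      Σ v : {v : V // B v v = 1},
        {f : Fin k → perp B v.1 // ON (B.domRestrict₁₂ (perp B v.1) (perp B v.1)) f} where
  toFun f := ⟨⟨f.1 0, by simpa using f.2 0 0⟩,
    ⟨fun i => ⟨f.1 i.succ, by
      rw [mem_perp]
      simpa [Fin.succ_ne_zero, eq_comm] using f.2 0 i.succ⟩, by
      intro i j
      simpa [LinearMap.domRestrict₁₂_apply] using f.2 i.succ j.succ⟩⟩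
  invFun p := ⟨Fin.cons p.1.1 (fun i => (p.2.1 i : V)), by
    have hS' : ∀ x y, σ (B x y) = B y x := LinearMap.isSymm_def.mp hS
    intro i j
    refine Fin.cases ?_ (fun i => ?_) i <;> refine Fin.cases ?_ (fun j => ?_) j
    · simpa using p.1.2
    · simpa [Fin.succ_ne_zero, eq_comm] using (mem_perp B _ _).1 (p.2.1 j).2
    · have := (mem_perp B _ _).1 (p.2.1 i).2
      simp only [Fin.cons_succ, Fin.cons_zero, Fin.succ_ne_zero, if_false]
      rw [← hS', this, map_zero]
    · simpa [LinearMap.domRestrict₁₂_apply] using p.2.2 i j⟩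
  left_inv f := by
    apply Subtype.ext
    funext i
    refine Fin.cases ?_ (fun i => ?_) i <;> simp
  right_inv p := by
    obtain ⟨⟨v, hv⟩, f, hf⟩ := p
    rfl


theorem B_basis (B : V →ₛₗ[σ] V →ₗ[F] F) {n : ℕ} (b : Basis (Fin n) F V)
    (hb : ∀ i j, B (b i) (b j) = if i = j then 1 else 0) (v w : V) :
    B v w = ∑ i, σ (b.repr v i) * b.repr w i := by
  conv_lhs => rw [← b.sum_repr v, ← b.sum_repr w]
  simp only [map_sum, LinearMap.sum_apply, map_smulₛₗ, LinearMap.smul_apply, hb, smul_eq_mul]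
  simp [mul_comm]

theorem card_norm_one [Fintype F] {q : ℕ} (hF : Fintype.card F = q ^ 2) (hσ : ∀ x, σ x = x ^ q)
    [FiniteDimensional F V] (B : V →ₛₗ[σ] V →ₗ[F] F) (hS : B.IsSymm) (hB : B.Nondegenerate) :
    Nat.card {v : V // B v v = 1} = u q (finrank F V) := by
  have h1 : σ ≠ RingHom.id F := by
    obtain ⟨x, hx⟩ := sig_ne_id hF
    intro h
    apply hx
    rw [← hσ, h]; rfl
  have h2 : ∀ a, σ (σ a) = a := by
    intro a
    rw [hσ, hσ, pow_q_q hF]
  obtain ⟨b, hb⟩ := Cfsg.Agent.S0755.result σ h1 h2 B hS hB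
  rw [← A_eq_u hF _ 1 one_ne_zero (one_pow q)]
  unfold A
  apply Nat.card_congr
  refine Equiv.subtypeEquiv b.equivFun.toEquiv ?_
  intro v
  rw [B_basis B b hb]
  simp only [hσ, ← pow_succ]
  rfl

theorem card_frames [Fintype F] {q : ℕ} (hF : Fintype.card F = q ^ 2) (hσ : ∀ x, σ x = x ^ q) (n : ℕ) :
    ∀ (V : Type*) [AddCommGroup V] [Module F V] [FiniteDimensional F V] (B : V →ₛₗ[σ] V →ₗ[F] F)
      (_ : B.IsSymm) (_ : B.Nondegenerate), finrank F V = n →
      Nat.card {f : Fin n → V // ON B f} = ∏ i ∈ Finset.range n, u q (i + 1) := by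
  induction n with
  | zero =>
    intro V _ _ _ B _ _ _
    have : Unique {f : Fin 0 → V // ON B f} :=
      { default := ⟨Fin.elim0, fun i => i.elim0⟩
        uniq := fun f => Subtype.ext (funext fun i => i.elim0) }
    simp
  | succ n ih =>
    intro V _ _ _ B hS hB hn
    have : Finite V := Module.finite_of_finite F
    have : Fintype {v : V // B v v = 1} := Fintype.ofFinite _
    rw [Nat.card_congr (frameEquiv B hS n), Nat.card_sigma, Finset.prod_range_succ]
    have : ∀ v : {v : V // B v v = 1},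
        Nat.card {f : Fin n → perp B v.1 // ON (B.domRestrict₁₂ (perp B v.1) (perp B v.1)) f}
          = ∏ i ∈ Finset.range n, u q (i + 1) := by
      intro v
      apply ih _ _ (hS.domRestrict _) (nondeg_perp B hS hB v.1 v.2)
      have := finrank_perp B v.1 v.2
      omega
    simp only [this]
    rw [Finset.sum_const, Finset.card_univ, ← Nat.card_eq_fintype_card, card_norm_one hF hσ B hS hB, hn,
      smul_eq_mul, mul_comm]

end Cfsg.Agent.Lib.Helper4.UniFrame
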