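import Mathlib
import Cfsg.Prelude.Def_LieClassical
import Cfsg.Agent.Lib.Helper4.UniFrame

namespace Cfsg.Agent.Lib.Helper4.UniMat

open Cfsg.Agent.Lib.Helper4.UniCount Cfsg.Agent.Lib.Helper4.UniFrame Module Matrix

variable {F : Type*} [Field F] {σ : F →+* F} {n : ℕ}

/-- the standard hermitian form `Σ σ(u_i) v_i`. -/
def stdB (σ : F →+* F) (n : ℕ) : (Fin n → F) →ₛₗ[σ] (Fin n → F) →ₗ[F] F :=
  LinearMap.mk₂'ₛₗ σ (RingHom.id F) (fun u v => (σ ∘ u) ⬝ᵥ v)
    (fun u u' v => by simp [dotProduct, add_mul, Finset.sum_add_distrib])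
    (fun c u v => by simp [dotProduct, Finset.mul_sum, mul_assoc])
    (fun u v v' => by simp [dotProduct, mul_add, Finset.sum_add_distrib])
    (fun c u v => by simp [dotProduct, Finset.mul_sum, mul_left_comm])

theorem stdB_apply (u v : Fin n → F) : stdB σ n u v = (σ ∘ u) ⬝ᵥ v := rfl

theorem hermForm_eq {q : ℕ} (hσ : ∀ x, σ x = x ^ q) (u v : Fin n → F) :
    Cfsg.hermForm n F q u v = stdB σ n v u := by
  rw [stdB_apply]
  unfold Cfsg.hermForm dotProduct
  exact Finset.sum_congr rfl (fun i _ => by rw [Function.comp, hσ, mul_comm])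

theorem stdB_isSymm (h2 : ∀ a, σ (σ a) = a) : (stdB σ n).IsSymm := by
  rw [LinearMap.isSymm_def]
  intro u v
  simp only [stdB_apply, dotProduct, map_sum, map_mul, Function.comp, h2, mul_comm]

theorem stdB_nondeg : (stdB σ n).Nondegenerate := by
  classical
  constructor
  · intro u hu
    funext i
    have := hu (Pi.single i 1)
    rw [stdB_apply, dotProduct_single, mul_one] at this
    exact (map_eq_zero σ).1 this
  · intro v hv
    funext i
    have := hv (Pi.single i 1)
    rw [stdB_apply] at this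
    have h1 : σ ∘ (Pi.single i (1 : F) : Fin n → F) = Pi.single i 1 := by
      funext j
      by_cases h : j = i
      · subst h; simp
      · simp [h]
    rw [h1, single_dotProduct, one_mul] at this
    exact this

/-- unitary matrices -/
def IsU (σ : F →+* F) (M : Matrix (Fin n) (Fin n) F) : Prop := (M.map σ)ᵀ * M = 1

theorem stdB_mulVec (M : Matrix (Fin n) (Fin n) F) (u v : Fin n → F) :
    stdB σ n (M *ᵥ u) (M *ᵥ v) = stdB σ n u (((M.map σ)ᵀ * M) *ᵥ v) := by
  rw [stdB_apply, stdB_apply, ← mulVec_mulVec, dotProduct_mulVec (σ ∘ u), vecMul_transpose]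
  congr 1
  funext i
  exact RingHom.map_mulVec σ M u i

theorem comp_single (i : Fin n) : σ ∘ (Pi.single i (1 : F) : Fin n → F) = Pi.single i 1 := by
  funext j
  by_cases h : j = i
  · subst h; simp
  · simp [h]

theorem preserves_iff (M : Matrix (Fin n) (Fin n) F) :
    (∀ u v, stdB σ n (M *ᵥ u) (M *ᵥ v) = stdB σ n u v) ↔ IsU σ M := by
  unfold IsU
  constructor
  · intro h
    ext i j
    have := h (Pi.single i 1) (Pi.single j 1)
    rw [stdB_mulVec, stdB_apply, stdB_apply, comp_single, single_dotProduct, single_dotProduct, one_mul,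
      one_mul, mulVec_single_one] at this
    rw [Matrix.one_apply, Pi.single_apply] at *
    simpa [eq_comm] using this
  · intro h u v
    rw [stdB_mulVec, h, one_mulVec]

theorem isU_iff_ON (M : Matrix (Fin n) (Fin n) F) : IsU σ M ↔ ON (stdB σ n) (fun i => Mᵀ i) := by
  unfold IsU ON
  rw [← Matrix.ext_iff]
  refine forall_congr' fun i => forall_congr' fun j => ?_
  rw [Matrix.one_apply, stdB_apply, Matrix.mul_apply]
  rfl

theorem mem_GU_iff {q : ℕ} (hσ : ∀ x, σ x = x ^ q) (g : Matrix.GeneralLinearGroup (Fin n) F) :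
    g ∈ Cfsg.GU n F q ↔ IsU σ g.1 := by
  rw [← preserves_iff]
  constructor
  · intro h u v
    rw [← hermForm_eq hσ, ← hermForm_eq hσ]
    exact h v u
  · intro h u v
    have := h v u
    rw [← hermForm_eq hσ, ← hermForm_eq hσ] at this
    exact this

theorem mem_SU_iff {q : ℕ} (hσ : ∀ x, σ x = x ^ q) (g : Matrix.SpecialLinearGroup (Fin n) F) :
    g ∈ Cfsg.SU n F q ↔ IsU σ g.1 := by
  rw [← preserves_iff]
  constructor
  · intro h u v
    rw [← hermForm_eq hσ, ← hermForm_eq hσ]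
    exact h v u
  · intro h u v
    have := h v u
    rw [← hermForm_eq hσ, ← hermForm_eq hσ] at this
    exact this

theorem IsU.mul_conj {M : Matrix (Fin n) (Fin n) F} (h : IsU σ M) : M * (M.map σ)ᵀ = 1 :=
  mul_eq_one_comm.1 h

/-- `GU` is in bijection with orthonormal frames. -/
def guEquiv {q : ℕ} (hσ : ∀ x, σ x = x ^ q) :
    Cfsg.GU n F q ≃ {f : Fin n → (Fin n → F) // ON (stdB σ n) f} where
  toFun g := ⟨fun i => (g.1.1)ᵀ i, (isU_iff_ON _).1 ((mem_GU_iff hσ g.1).1 g.2)⟩
  invFun f :=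
    have hU : IsU σ (Matrix.of f.1)ᵀ := (isU_iff_ON _).2 f.2
    ⟨⟨(Matrix.of f.1)ᵀ, (((Matrix.of f.1)ᵀ).map σ)ᵀ, hU.mul_conj, hU⟩, (mem_GU_iff hσ _).2 hU⟩
  left_inv g := by
    apply Subtype.ext
    apply Units.ext
    rfl
  right_inv f := rfl

theorem card_GU [Fintype F] {q : ℕ} (hF : Fintype.card F = q ^ 2) (n : ℕ) :
    Nat.card (Cfsg.GU n F q) = ∏ i ∈ Finset.range n, u q (i + 1) := by
  obtain ⟨σ, hσ⟩ := exists_sig hF
  have h2 : ∀ a, σ (σ a) = a := by
    intro a
    rw [hσ, hσ, pow_q_q hF]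
  rw [Nat.card_congr (guEquiv hσ)]
  exact card_frames hF hσ n _ _ (stdB_isSymm h2) stdB_nondeg (by simp)


theorem prod_u (q n : ℕ) : ∏ i ∈ Finset.range n, u q (i + 1)
    = q ^ (n * (n - 1) / 2) * ∏ i ∈ Finset.range n, (if Even i then q ^ (i + 1) + 1 else q ^ (i + 1) - 1) := by
  rw [← Finset.sum_range_id, ← Finset.prod_pow_eq_pow_sum, ← Finset.prod_mul_distrib]
  apply Finset.prod_congr rfl
  intro i _
  unfold u
  simp only [Nat.even_add_one, Nat.add_sub_cancel]
  split_ifs <;> simp_all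

end Cfsg.Agent.Lib.Helper4.UniMat
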