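import Mathlib
import Cfsg.Prelude.Def_LieClassical
import Cfsg.Agent.Lib.Helper4.UniMat
import Cfsg.Agent.Lib.Helper4.LineCount

namespace Cfsg.Agent.Lib.Helper4.UniLines

open Cfsg.Agent.Lib.Helper4.UniCount Cfsg.Agent.Lib.Helper4.UniFrame Cfsg.Agent.Lib.Helper4.UniMat
open Cfsg.Agent.Lib.Helper4.LineCount
open Module Matrix

variable {F : Type*} [Field F] [Fintype F] {σ : F →+* F} {n q : ℕ}

theorem card_fixed (hF : Fintype.card F = q ^ 2) : Nat.card {c : F // c ^ q = c} = q := by
  classical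
  have hq2 := two_le_q hF
  have hcard : Nat.card Fˣ = q ^ 2 - 1 := by
    rw [Nat.card_eq_fintype_card, Fintype.card_units, hF]
  have hfac : q ^ 2 - 1 = (q + 1) * (q - 1) := by
    obtain ⟨r, rfl⟩ : ∃ r, q = r + 1 := ⟨q - 1, by omega⟩
    simp only [Nat.add_sub_cancel]
    have : (r + 1) ^ 2 = (r + 1 + 1) * r + 1 := by ring
    omega
  have hker : Nat.card (powMonoidHom (q - 1) : Fˣ →* Fˣ).ker = q - 1 := by
    rw [IsCyclic.card_powMonoidHom_ker, hcard, hfac]
    exact Nat.gcd_eq_right (Dvd.intro_left _ rfl)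
  have h1 := card_ne_zero_and (V := F) (fun c => c ^ q = c) (zero_pow (by omega))
  have h2 : Nat.card {c : F // c ≠ 0 ∧ c ^ q = c} = q - 1 := by
    rw [← hker]
    apply Nat.card_congr
    refine
      { toFun := fun c => ⟨Units.mk0 c.1 c.2.1, ?_⟩
        invFun := fun x => ⟨((x : Fˣ) : F), Units.ne_zero _, ?_⟩
        left_inv := fun c => rfl
        right_inv := fun x => by
          apply Subtype.ext
          apply Units.ext
          rfl }
    · rw [MonoidHom.mem_ker]
      apply Units.ext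
      show c.1 ^ (q - 1) = 1
      apply mul_right_cancel₀ c.2.1
      rw [← pow_succ, Nat.sub_add_cancel (by omega), c.2.2, one_mul]
    · have h : ((x : Fˣ) : F) ^ (q - 1) = 1 := by
        have := congrArg Units.val (MonoidHom.mem_ker.1 x.2)
        simpa using this
      have : ((x : Fˣ) : F) ^ q = ((x : Fˣ) : F) ^ (q - 1) * ((x : Fˣ) : F) := by
        rw [← pow_succ, Nat.sub_add_cancel (by omega)]
      rw [this, h, one_mul]
  have h3 : 0 < Nat.card {c : F // c ^ q = c} := by
    have : Nonempty {c : F // c ^ q = c} := ⟨⟨0, zero_pow (by omega)⟩⟩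
    exact Nat.card_pos
  omega

theorem exists_trace_one (hF : Fintype.card F = q ^ 2) (hσ : ∀ x, σ x = x ^ q) : ∃ θ : F, θ + σ θ = 1 := by
  have h2 : ∀ a, σ (σ a) = a := by
    intro a
    rw [hσ, hσ, pow_q_q hF]
  by_cases h : (2 : F) = 0
  · obtain ⟨x, hx⟩ := sig_ne_id hF
    rw [← hσ] at hx
    have ht : x + σ x ≠ 0 := by
      intro h0
      apply hx
      linear_combination h0 - x * h
    refine ⟨x / (x + σ x), ?_⟩
    rw [map_div₀, map_add, h2, add_comm (σ x) x, ← add_div, div_self ht]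
  · refine ⟨1 / 2, ?_⟩
    rw [map_div₀, map_one, map_ofNat]
    field_simp
    norm_num


theorem stdB_add_smul (h2 : ∀ a, σ (σ a) = a) (u v : Fin n → F) (hu0 : stdB σ n u u = 0) (a : F) :
    stdB σ n (v + a • u) (v + a • u) = stdB σ n v v + (a * σ (stdB σ n u v) + σ a * stdB σ n u v) := by
  have hS : ∀ x y, σ (stdB σ n x y) = stdB σ n y x := LinearMap.isSymm_def.mp (stdB_isSymm h2)
  simp only [map_add, LinearMap.add_apply, map_smulₛₗ, LinearMap.smul_apply, smul_eq_mul, hu0, hS,
    RingHom.id_apply]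
  ring

theorem stdB_self_fixed (h2 : ∀ a, σ (σ a) = a) (v : Fin n → F) : σ (stdB σ n v v) = stdB σ n v v :=
  LinearMap.isSymm_def.mp (stdB_isSymm h2) v v

theorem card_I1 (hF : Fintype.card F = q ^ 2) (hσ : ∀ x, σ x = x ^ q) (u : Fin n → F) (hu : u ≠ 0)
    (hu0 : stdB σ n u u = 0) :
    q * Nat.card {v // stdB σ n u v = 1 ∧ stdB σ n v v = 0} = (q ^ 2) ^ (n - 1) := by
  classical
  have h2 : ∀ a, σ (σ a) = a := by
    intro a
    rw [hσ, hσ, pow_q_q hF]
  obtain ⟨θ, hθ⟩ := exists_trace_one hF hσ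
  have hA : Nat.card {v // stdB σ n u v = 1} = (q ^ 2) ^ (n - 1) := by
    have := card_fiber_functional (stdB σ n u) (fun h => hu (stdB_nondeg.1 u (fun y => by rw [h]; rfl))) 1
    rw [hF] at this
    simpa using this
  rw [← hA]
  let f : {v // stdB σ n u v = 1} → {c : F // c ^ q = c} :=
    fun v => ⟨stdB σ n v.1 v.1, by rw [← hσ]; exact stdB_self_fixed h2 _⟩
  rw [Nat.card_congr (Equiv.sigmaFiberEquiv f).symm, Nat.card_sigma]
  have key : ∀ c : {c : F // c ^ q = c}, Nat.card {v // f v = c}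
      = Nat.card {v // stdB σ n u v = 1 ∧ stdB σ n v v = 0} := by
    intro c
    have hc : σ c.1 = c.1 := by rw [hσ]; exact c.2
    apply Nat.card_congr
    refine
      { toFun := fun v => ⟨v.1.1 + (-(c.1 * θ)) • u, ?_, ?_⟩
        invFun := fun w => ⟨⟨w.1 + (c.1 * θ) • u, ?_⟩, ?_⟩
        left_inv := ?_
        right_inv := ?_ }
    · rw [map_add, map_smul, hu0, smul_zero, add_zero]
      exact v.1.2
    · have hv : stdB σ n v.1.1 v.1.1 = c.1 := congrArg Subtype.val v.2
      rw [stdB_add_smul h2 u _ hu0, v.1.2, hv, map_one, map_neg, map_mul, hc]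
      linear_combination (-c.1) * hθ
    · rw [map_add, map_smul, hu0, smul_zero, add_zero]
      exact w.2.1
    · apply Subtype.ext
      show stdB σ n (w.1 + (c.1 * θ) • u) (w.1 + (c.1 * θ) • u) = c.1
      rw [stdB_add_smul h2 u _ hu0, w.2.1, w.2.2, map_one, map_mul, hc]
      linear_combination c.1 * hθ
    · intro v
      apply Subtype.ext
      apply Subtype.ext
      simp
    · intro w
      apply Subtype.ext
      simp
  simp only [key]
  rw [Finset.sum_const, Finset.card_univ, ← Nat.card_eq_fintype_card, card_fixed hF, smul_eq_mul]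


theorem card_I0 (hF : Fintype.card F = q ^ 2) (u : Fin n → F) :
    Nat.card {v // stdB σ n u v = 0 ∧ stdB σ n v v = 0}
      + (q ^ 2 - 1) * Nat.card {v // stdB σ n u v = 1 ∧ stdB σ n v v = 0}
      = Nat.card {v // stdB σ n v v = 0} := by
  classical
  let f : {v // stdB σ n v v = 0} → F := fun v => stdB σ n u v.1
  rw [Nat.card_congr (Equiv.sigmaFiberEquiv f).symm, Nat.card_sigma]
  have key : ∀ t : F, Nat.card {v // f v = t}
      = if t = 0 then Nat.card {v // stdB σ n u v = 0 ∧ stdB σ n v v = 0}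
        else Nat.card {v // stdB σ n u v = 1 ∧ stdB σ n v v = 0} := by
    intro t
    split_ifs with ht
    · subst ht
      apply Nat.card_congr
      exact
        { toFun := fun v => ⟨v.1.1, v.2, v.1.2⟩
          invFun := fun w => ⟨⟨w.1, w.2.2⟩, w.2.1⟩
          left_inv := fun v => rfl
          right_inv := fun w => rfl }
    · apply Nat.card_congr
      refine
        { toFun := fun v => ⟨t⁻¹ • v.1.1, ?_, ?_⟩
          invFun := fun w => ⟨⟨t • w.1, ?_⟩, ?_⟩
          left_inv := ?_
          right_inv := ?_ }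
      · have : stdB σ n u v.1.1 = t := v.2
        rw [map_smul, this, smul_eq_mul, inv_mul_cancel₀ ht]
      · rw [map_smul, map_smulₛₗ, LinearMap.smul_apply, v.1.2, smul_zero, smul_zero]
      · rw [map_smul, map_smulₛₗ, LinearMap.smul_apply, w.2.2, smul_zero, smul_zero]
      · show stdB σ n u (t • w.1) = t
        rw [map_smul, w.2.1, smul_eq_mul, mul_one]
      · intro v
        apply Subtype.ext
        apply Subtype.ext
        simp [smul_smul, ht]
      · intro w
        apply Subtype.ext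
        simp [smul_smul, ht]
  simp only [key]
  rw [Finset.sum_ite, Finset.sum_const, Finset.sum_const]
  have e1 : (Finset.univ.filter (fun x : F => x = 0)).card = 1 := by
    rw [Finset.card_eq_one]
    exact ⟨0, by ext x; simp⟩
  have e2 : (Finset.univ.filter (fun x : F => ¬ x = 0)).card = q ^ 2 - 1 := by
    have := Finset.card_filter_add_card_filter_not (s := (Finset.univ : Finset F)) (fun x => x = 0)
    rw [e1, Finset.card_univ, hF] at this
    omega
  rw [e1, e2]
  simp


theorem card_iso (hσ : ∀ x, σ x = x ^ q) : Nat.card {v : Fin n → F // stdB σ n v v = 0} = A F q n 0 := by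
  unfold A
  apply Nat.card_congr
  apply Equiv.subtypeEquivRight
  intro v
  rw [← hermForm_eq hσ, hermForm_self]

/-- the number of totally isotropic lines of the unitary space, in terms of `I1 = q^(2n-3)`. -/
theorem card_ti_lines (hF : Fintype.card F = q ^ 2) (n I1 : ℕ) (hI1 : q * I1 = (q ^ 2) ^ (n - 1)) :
    Nat.card {W : Submodule F (Fin n → F) // finrank F W = 2 ∧ ∀ u ∈ W, ∀ v ∈ W, Cfsg.hermForm n F q u v = 0}
      * (((q ^ 2) ^ 2 - 1) * ((q ^ 2) ^ 2 - q ^ 2))
      = (A F q n 0 - 1) * (A F q n 0 - (q ^ 2 - 1) * I1 - q ^ 2) := by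
  classical
  obtain ⟨σ, hσ⟩ := exists_sig hF
  have hq := two_le_q hF
  have h2 : ∀ a, σ (σ a) = a := by
    intro a
    rw [hσ, hσ, pow_q_q hF]
  have hS : ∀ x y, σ (stdB σ n x y) = stdB σ n y x := LinearMap.isSymm_def.mp (stdB_isSymm h2)
  let P : Submodule F (Fin n → F) → Prop := fun W => ∀ u ∈ W, ∀ v ∈ W, Cfsg.hermForm n F q u v = 0
  have hP : ∀ s : Fin 2 → (Fin n → F), P (Submodule.span F (Set.range s)) ↔
      (stdB σ n (s 0) (s 0) = 0 ∧ (stdB σ n (s 0) (s 1) = 0 ∧ stdB σ n (s 1) (s 1) = 0)) := by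
    intro s
    have h1 := ti_span_iff (stdB σ n) s
    have h3 : P (Submodule.span F (Set.range s)) ↔ (∀ u ∈ Submodule.span F (Set.range s),
        ∀ v ∈ Submodule.span F (Set.range s), stdB σ n u v = 0) := by
      constructor
      · intro h u hu v hv
        rw [← hermForm_eq hσ]; exact h v hv u hu
      · intro h u hu v hv
        rw [hermForm_eq hσ]; exact h v hv u hu
    rw [h3, h1]
    constructor
    · intro h; exact ⟨h 0 0, h 0 1, h 1 1⟩
    · rintro ⟨h00, h01, h11⟩ i j
      fin_cases i <;> fin_cases j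
      · exact h00
      · exact h01
      · show stdB σ n (s 1) (s 0) = 0
        rw [← hS, h01, map_zero]
      · exact h11
  have hN : ∀ u : Fin n → F, u ≠ 0 → stdB σ n u u = 0 →
      Nat.card {v // stdB σ n u v = 0 ∧ stdB σ n v v = 0} = A F q n 0 - (q ^ 2 - 1) * I1 := by
    intro u hu hu0
    have h1 := card_I1 hF hσ u hu hu0
    have h3 := card_I0 (σ := σ) hF u
    rw [card_iso hσ] at h3
    have h4 : Nat.card {v // stdB σ n u v = 1 ∧ stdB σ n v v = 0} = I1 :=
      Nat.eq_of_mul_eq_mul_left (by omega : 0 < q) (h1.trans hI1.symm)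
    rw [h4] at h3
    omega
  have h1 := card_pairs (K := F) P
  have h3 := card_pairs_sum (K := F) (V := Fin n → F) (fun u => stdB σ n u u = 0)
    (fun u v => stdB σ n u v = 0 ∧ stdB σ n v v = 0) (A F q n 0 - (q ^ 2 - 1) * I1)
    (fun u hu a => by
      constructor
      · rw [map_smul, hu, smul_zero]
      · rw [map_smul, map_smulₛₗ, LinearMap.smul_apply, hu, smul_zero, smul_zero]) hN
  have h4 : Nat.card {s : Fin 2 → (Fin n → F) // LinearIndependent F s ∧
      P (Submodule.span F (Set.range s))} = Nat.card {s : Fin 2 → (Fin n → F) //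
        LinearIndependent F s ∧ stdB σ n (s 0) (s 0) = 0 ∧
          (stdB σ n (s 0) (s 1) = 0 ∧ stdB σ n (s 1) (s 1) = 0)} := by
    apply Nat.card_congr
    apply Equiv.subtypeEquivRight
    intro s
    rw [hP]
  have h5 : Nat.card {u : Fin n → F // u ≠ 0 ∧ stdB σ n u u = 0} = A F q n 0 - 1 := by
    rw [card_ne_zero_and (fun u => stdB σ n u u = 0) (by simp), card_iso hσ]
  rw [h4, h3, h5, hF] at h1
  exact h1.symm

end Cfsg.Agent.Lib.Helper4.UniLines
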