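import Mathlib
import Cfsg.Agent.Lib.Helper4.UniLines

set_option autoImplicit false

namespace Cfsg.Agent.Lib.Helper4.QuadExt

open Module Cfsg.Agent.Lib.Helper4.UniCount Cfsg.Agent.Lib.Helper4.UniLines

variable {K F : Type*} [Field K] [Fintype K] [Field F] [Fintype F] {q : ℕ}

/-- the field with `q` elements embeds in the field with `q²` elements as the fixed field of `x ↦ x^q`. -/
theorem exists_iota (hK : Fintype.card K = q ^ 2) (hF : Fintype.card F = q) :
    ∃ ι : F →+* K, ∀ x : K, x ^ q = x ↔ x ∈ Set.range ι := by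
  classical
  obtain ⟨σ, hσ⟩ := exists_sig hK
  let F₀ : Subfield K := RingHom.eqLocusField σ (RingHom.id K)
  have hmem : ∀ x : K, x ∈ F₀ ↔ x ^ q = x := by
    intro x
    change σ x = x ↔ _
    rw [hσ]
  have hcard : Fintype.card F = Fintype.card F₀ := by
    rw [hF, ← card_fixed hK, Nat.card_eq_fintype_card]
    apply Fintype.card_congr
    exact Equiv.subtypeEquivRight (fun x => (hmem x).symm)
  let e : F ≃+* F₀ := FiniteField.ringEquivOfCardEq hcard
  refine ⟨F₀.subtype.comp (e : F →+* F₀), ?_⟩
  intro x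
  rw [← hmem]
  constructor
  · intro hx
    exact ⟨e.symm ⟨x, hx⟩, by simp⟩
  · rintro ⟨y, rfl⟩
    exact (e y).2

section alg
variable [Algebra F K]

theorem finrank_ext (hK : Fintype.card K = q ^ 2) (hF : Fintype.card F = q) : finrank F K = 2 := by
  have h := Module.card_eq_pow_finrank (K := F) (V := K)
  rw [hK, hF] at h
  exact (Nat.pow_right_injective (two_le_q hK) h).symm

theorem finrank_pi {ι : Type*} [Fintype ι] (hK : Fintype.card K = q ^ 2) (hF : Fintype.card F = q) :
    finrank F (ι → K) = 2 * Fintype.card ι := by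
  classical
  have h := Module.card_eq_pow_finrank (K := F) (V := ι → K)
  rw [Fintype.card_pi, Finset.prod_const, Finset.card_univ, hK, hF, ← pow_mul] at h
  exact (Nat.pow_right_injective (two_le_q hK) h).symm

/-- a nonzero `F`-linear functional on `K` vanishing on `F`. -/
theorem exists_functional (hK : Fintype.card K = q ^ 2) (hF : Fintype.card F = q) :
    ∃ l : K →ₗ[F] F, l ≠ 0 ∧ ∀ a : F, l (algebraMap F K a) = 0 := by
  have hlt : (F ∙ (1 : K)) < ⊤ := by
    rw [lt_top_iff_ne_top]
    intro h
    have h1 := finrank_span_singleton (K := F) (one_ne_zero : (1 : K) ≠ 0)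
    rw [h, finrank_top, finrank_ext hK hF] at h1
    omega
  obtain ⟨l, hl, hker⟩ := Submodule.exists_le_ker_of_lt_top _ hlt
  refine ⟨l, hl, fun a => ?_⟩
  have : algebraMap F K a ∈ (F ∙ (1 : K)) := by
    rw [Algebra.algebraMap_eq_smul_one]
    exact Submodule.smul_mem _ _ (Submodule.mem_span_singleton_self _)
  exact hker this

/-- `l (c * x) = 0` for all `c` forces `x = 0`. -/
theorem eq_zero_of_functional {l : K →ₗ[F] F} (hl : l ≠ 0) {x : K} (h : ∀ c : K, l (c * x) = 0) : x = 0 := by
  by_contra hx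
  apply hl
  ext y
  have := h (y * x⁻¹)
  rwa [mul_assoc, inv_mul_cancel₀ hx, mul_one] at this

end alg

end Cfsg.Agent.Lib.Helper4.QuadExt
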