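import Mathlib
import Cfsg.Agent.Lib.Helper4.PSL2Spec
import Cfsg.Agent.Lib.Helper4.QuadExt

set_option autoImplicit false

namespace Cfsg.Agent.Lib.Helper4.PSL2Spec

open Matrix Cfsg.Agent.Lib.Helper4.SL2Eigen Cfsg.Agent.Lib.Helper4.SL2Conj Cfsg.Agent.Lib.Helper4.GL2Conj
  Cfsg.Agent.Lib.Helper4.QuadExt

variable {F : Type*} [Field F]

theorem orderOf_mk_compSL {K : Type*} [Field K] (ι : F →+* K) (μ : K) (hμ0 : μ ≠ 0) (hμ2 : μ ^ 2 ≠ 1) (t : F)
    (ht : ι t = μ + μ⁻¹) :
    orderOf (QuotientGroup.mk (compSL t) : ProjectiveSpecialLinearGroup (Fin 2) F) = orderOf (μ ^ 2) := by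
  have hinv : μ * μ⁻¹ = 1 := mul_inv_cancel₀ hμ0
  have hv : ((compSL t).1.map ι) *ᵥ ![1, -μ] = μ • ![1, -μ] := by
    funext i
    fin_cases i
    · simp [compSL_val, GL2Conj.comp, Matrix.mulVec, dotProduct, Fin.sum_univ_two]
    · simp [compSL_val, GL2Conj.comp, Matrix.mulVec, dotProduct, Fin.sum_univ_two, ht]
      linear_combination (-1 : K) * hinv
  have hw : ((compSL t).1.map ι) *ᵥ ![1, -μ⁻¹] = μ⁻¹ • ![1, -μ⁻¹] := by
    funext i
    fin_cases i
    · simp [compSL_val, GL2Conj.comp, Matrix.mulVec, dotProduct, Fin.sum_univ_two]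
    · simp [compSL_val, GL2Conj.comp, Matrix.mulVec, dotProduct, Fin.sum_univ_two, ht]
      linear_combination (-1 : K) * hinv
  have hD : (![1, -μ] : Fin 2 → K) 0 * (![1, -μ⁻¹] : Fin 2 → K) 1
      - (![1, -μ] : Fin 2 → K) 1 * (![1, -μ⁻¹] : Fin 2 → K) 0 ≠ 0 := by
    simp only [Matrix.cons_val_zero, Matrix.cons_val_one]
    intro h
    apply hμ2
    linear_combination μ * h + hinv
  rw [orderOf_eq_orderOf_iff]
  intro n
  rw [← QuotientGroup.mk_pow, QuotientGroup.eq_one_iff, Matrix.SpecialLinearGroup.mem_center_iff]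
  have h1 := map_pow_mulVec ι (compSL t) _ μ hv n
  have h2 := map_pow_mulVec ι (compSL t) _ μ⁻¹ hw n
  constructor
  · rintro ⟨r, hr, hrg⟩
    rw [Fintype.card_fin] at hr
    rw [← hrg] at h1
    have h3 := congrFun h1 0
    simp [Matrix.mulVec, dotProduct, Fin.sum_univ_two] at h3
    rw [← pow_mul, mul_comm, pow_mul, ← h3, ← map_pow, hr, map_one]
  · intro hn
    rw [← pow_mul, mul_comm, pow_mul] at hn
    have hcases : μ ^ n = 1 ∨ μ ^ n = -1 := by
      have : (μ ^ n - 1) * (μ ^ n + 1) = 0 := by linear_combination hn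
      rcases mul_eq_zero.1 this with h | h
      · left; linear_combination h
      · right; linear_combination h
    have hgen : ∀ e : F, ι e = μ ^ n → e ^ 2 = 1 → ∃ r : F, r ^ Fintype.card (Fin 2) = 1 ∧
        (Matrix.scalar (Fin 2)) r = ((compSL t) ^ n).1 := by
      intro e he he2
      refine ⟨e, by rw [Fintype.card_fin]; exact he2, ?_⟩
      have hinvn : (μ⁻¹) ^ n = μ ^ n := by
        rw [inv_pow]
        apply inv_eq_of_mul_eq_one_left
        rw [← sq]; exact hn
      have hN := scalar_of_two_eigen (((compSL t) ^ n).1.map ι - (μ ^ n) • 1) _ _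
        (by rw [Matrix.sub_mulVec, h1, Matrix.smul_mulVec, Matrix.one_mulVec, sub_self])
        (by rw [Matrix.sub_mulVec, h2, hinvn, Matrix.smul_mulVec, Matrix.one_mulVec, sub_self]) hD
      apply Matrix.map_injective ι.injective
      change ((Matrix.scalar (Fin 2)) e).map ι = ((compSL t) ^ n).1.map ι
      rw [sub_eq_zero.1 hN, ← he]
      ext i j
      fin_cases i <;> fin_cases j <;> simp
    rcases hcases with h | h
    · exact hgen 1 (by rw [map_one, h]) (by simp)
    · exact hgen (-1) (by rw [map_neg, map_one, h]) (by simp)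

variable [Fintype F]

theorem exists_orderOf_split (h4 : 4 ≤ Fintype.card F) :
    ∃ x : ProjectiveSpecialLinearGroup (Fin 2) F,
      orderOf x = (Fintype.card F - 1) / Nat.gcd 2 (Fintype.card F - 1) := by
  classical
  obtain ⟨ζ, hζ⟩ := IsCyclic.exists_ofOrder_eq_natCard (α := Fˣ)
  rw [Nat.card_eq_fintype_card, Fintype.card_units, ← orderOf_units] at hζ
  refine ⟨QuotientGroup.mk (compSL ((ζ : F) + (ζ : F)⁻¹)), ?_⟩
  have hne : (ζ : F) ^ 2 ≠ 1 := by
    intro h
    have := orderOf_dvd_of_pow_eq_one h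
    rw [hζ] at this
    have := Nat.le_of_dvd (by norm_num) this
    omega
  have key := orderOf_mk_compSL (RingHom.id F) (ζ : F) ζ.ne_zero hne ((ζ : F) + (ζ : F)⁻¹) rfl
  rw [key, orderOf_pow' _ two_ne_zero, hζ, Nat.gcd_comm]

theorem exists_orderOf_nonsplit (h4 : 4 ≤ Fintype.card F) :
    ∃ x : ProjectiveSpecialLinearGroup (Fin 2) F,
      orderOf x = (Fintype.card F + 1) / Nat.gcd 2 (Fintype.card F - 1) := by
  classical
  obtain ⟨p, hpc⟩ := CharP.exists F
  obtain ⟨k, hp, hk⟩ := FiniteField.card F p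
  have : Fact p.Prime := ⟨hp⟩
  set q := Fintype.card F with hq
  let K := GaloisField p (2 * k)
  have : Finite K := by
    apply Nat.finite_of_card_ne_zero
    rw [GaloisField.card p (2 * k) (by simp)]
    exact pow_ne_zero _ hp.ne_zero
  have : Fintype K := Fintype.ofFinite K
  have hK : Fintype.card K = q ^ 2 := by
    rw [← Nat.card_eq_fintype_card, GaloisField.card p (2 * k) (by simp), hk, ← pow_mul, mul_comm]
  obtain ⟨ι, hι⟩ := exists_iota (K := K) (F := F) hK hq.symm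
  obtain ⟨γ, hγ⟩ := IsCyclic.exists_ofOrder_eq_natCard (α := Kˣ)
  rw [Nat.card_eq_fintype_card, Fintype.card_units, ← orderOf_units, hK] at hγ
  have hfac : q ^ 2 - 1 = (q - 1) * (q + 1) := by
    have h1 : 1 ≤ q := by omega
    have h2 : 1 ≤ q ^ 2 := Nat.one_le_pow _ _ h1
    zify [h1, h2]; ring
  let μ : K := (γ : K) ^ (q - 1)
  have hμ0 : μ ≠ 0 := pow_ne_zero _ γ.ne_zero
  have hμ : orderOf μ = q + 1 := by
    rw [orderOf_pow' _ (by omega), hγ, hfac, Nat.gcd_eq_right (dvd_mul_right _ _), Nat.mul_div_cancel_left _ (by omega)]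
  have hμq : μ ^ q = μ⁻¹ := by
    apply eq_inv_of_mul_eq_one_left
    rw [← pow_succ, ← hμ, pow_orderOf_eq_one]
  have hfix : (μ + μ⁻¹) ^ q = μ + μ⁻¹ := by
    obtain ⟨σ, hσ⟩ := UniCount.exists_sig hK
    rw [← hσ, map_add, map_inv₀, hσ, hμq, inv_inv, add_comm]
  obtain ⟨t, ht⟩ := (hι _).1 hfix
  refine ⟨QuotientGroup.mk (compSL t), ?_⟩
  rw [orderOf_mk_compSL ι μ hμ0 ?_ t ht, orderOf_pow' _ two_ne_zero, hμ]
  · congr 1
    have : q + 1 = q - 1 + 2 := by omega
    rw [this, Nat.gcd_add_self_left, Nat.gcd_comm]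
  · intro h
    have := orderOf_dvd_of_pow_eq_one h
    rw [hμ] at this
    have := Nat.le_of_dvd (by norm_num) this
    omega

theorem exists_orderOf_char (p : ℕ) [Fact p.Prime] [CharP F p] :
    ∃ x : ProjectiveSpecialLinearGroup (Fin 2) F, orderOf x = p := by
  have hp : p.Prime := Fact.out
  let u : SpecialLinearGroup (Fin 2) F := ⟨!![1, 1; 0, 1], by simp [Matrix.det_fin_two_of]⟩
  refine ⟨QuotientGroup.mk u, ?_⟩
  apply orderOf_eq_prime
  · rw [← QuotientGroup.mk_pow]
    have htr : u.1.trace = 2 := by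
      change (!![1, 1; 0, 1] : Matrix (Fin 2) (Fin 2) F).trace = 2
      rw [Matrix.trace_fin_two_of]; norm_num
    have h1 : (u.1 - 1) ^ p = 0 := pow_eq_zero_of_le hp.two_le (sub_one_sq u htr)
    rw [sub_pow_char_of_commute _ (Commute.one_right _), one_pow, sub_eq_zero] at h1
    have h2 : u ^ p = 1 := Subtype.ext h1
    rw [h2]; rfl
  · rw [Ne, QuotientGroup.eq_one_iff, Matrix.SpecialLinearGroup.mem_center_iff]
    rintro ⟨r, -, hr⟩
    have := congrFun (congrFun hr 0) 1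
    simp [u] at this

/-- the spectrum of `PSL₂(q)` -/
theorem spectrum (p : ℕ) [Fact p.Prime] [CharP F p] (h4 : 4 ≤ Fintype.card F) :
    Set.range (orderOf : Matrix.ProjectiveSpecialLinearGroup (Fin 2) F → ℕ) =
      {m : ℕ | m ∣ p ∨ m ∣ (Fintype.card F - 1) / Nat.gcd 2 (Fintype.card F - 1) ∨
        m ∣ (Fintype.card F + 1) / Nat.gcd 2 (Fintype.card F - 1)} := by
  have hgen : ∀ (x : ProjectiveSpecialLinearGroup (Fin 2) F) (m : ℕ), m ∣ orderOf x →
      ∃ y : ProjectiveSpecialLinearGroup (Fin 2) F, orderOf y = m := by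
    intro x m hm
    have hpos : 0 < orderOf x := orderOf_pos x
    obtain ⟨c, hc⟩ := hm
    have hc0 : c ≠ 0 := by rintro rfl; omega
    have hm0 : 0 < m := by
      rcases Nat.eq_zero_or_pos m with h | h
      · rw [h] at hc; omega
      · exact h
    refine ⟨x ^ c, ?_⟩
    rw [orderOf_pow_of_dvd hc0 ⟨m, by rw [hc, mul_comm]⟩, hc, Nat.mul_div_cancel _ (Nat.pos_of_ne_zero hc0)]
  ext m
  simp only [Set.mem_range, Set.mem_ofPred_eq]
  constructor
  · rintro ⟨x, rfl⟩
    exact orderOf_dvd p x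
  · rintro (h | h | h)
    · obtain ⟨x, hx⟩ := exists_orderOf_char (F := F) p
      exact hgen x m (hx ▸ h)
    · obtain ⟨x, hx⟩ := exists_orderOf_split (F := F) h4
      exact hgen x m (hx ▸ h)
    · obtain ⟨x, hx⟩ := exists_orderOf_nonsplit (F := F) h4
      exact hgen x m (hx ▸ h)

end Cfsg.Agent.Lib.Helper4.PSL2Spec
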