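import Mathlib

namespace Cfsg.Agent.Lib.Helper4.QuadFin

open QuadraticMap

variable {F V : Type*} [Field F] [AddCommGroup V] [Module F V]

/-- Chevalley–Warning for quadratic forms. -/
theorem exists_singular [Finite F] [FiniteDimensional F V] (Q : QuadraticForm F V)
    (h3 : 3 ≤ Module.finrank F V) : ∃ v : V, v ≠ 0 ∧ Q v = 0 := by
  classical
  have := Fintype.ofFinite F
  obtain ⟨p, hp⟩ := CharP.exists F
  have hpp : p.Prime := (CharP.char_is_prime_or_zero F p).resolve_right (by
    intro h0; subst h0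
    have := CharP.charP_to_charZero F
    exact not_finite F |>.elim) 
  set n := Module.finrank F V with hn
  let b : Module.Basis (Fin n) F V := Module.finBasis F V
  let B := Q.toBilin b
  have hB : ∀ v, B v v = Q v := fun v => by
    have := congrArg (fun q => q v) (QuadraticMap.toQuadraticMap_toBilin Q b)
    simpa using this
  let f : MvPolynomial (Fin n) F :=
    ∑ i, ∑ j, MvPolynomial.C (B (b i) (b j)) * (MvPolynomial.X i * MvPolynomial.X j)
  have hf : ∀ x : Fin n → F, MvPolynomial.eval x f = Q (∑ i, x i • b i) := by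
    intro x
    rw [← hB]
    simp only [f, map_sum, map_mul, MvPolynomial.eval_C, MvPolynomial.eval_X, LinearMap.sum_apply,
      map_smul, LinearMap.smul_apply, smul_eq_mul]
    rw [Finset.sum_comm]
    apply Finset.sum_congr rfl; intro i _
    rw [Finset.mul_sum]
    apply Finset.sum_congr rfl; intro j _
    ring
  have hdeg : f.totalDegree < Fintype.card (Fin n) := by
    rw [Fintype.card_fin]
    refine lt_of_le_of_lt ?_ h3
    refine (MvPolynomial.totalDegree_finsetSum _ _).trans ?_
    apply Finset.sup_le; intro i _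
    refine (MvPolynomial.totalDegree_finsetSum _ _).trans ?_
    apply Finset.sup_le; intro j _
    refine (MvPolynomial.totalDegree_mul _ _).trans ?_
    rw [MvPolynomial.totalDegree_C, zero_add]
    refine (MvPolynomial.totalDegree_mul _ _).trans ?_
    rw [MvPolynomial.totalDegree_X, MvPolynomial.totalDegree_X]
  have hdvd := char_dvd_card_solutions p hdeg
  have hcard : 1 < Fintype.card { x : Fin n → F // MvPolynomial.eval x f = 0 } := by
    have h0 : 0 < Fintype.card { x : Fin n → F // MvPolynomial.eval x f = 0 } :=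
      Fintype.card_pos_iff.2 ⟨⟨0, by rw [hf]; simp⟩⟩
    exact lt_of_lt_of_le hpp.one_lt (Nat.le_of_dvd h0 hdvd)
  obtain ⟨⟨x, hx⟩, ⟨y, hy⟩, hxy⟩ := Fintype.one_lt_card_iff.1 hcard
  have key : ∀ z : Fin n → F, z ≠ 0 → MvPolynomial.eval z f = 0 → ∃ v : V, v ≠ 0 ∧ Q v = 0 := by
    intro z hz hz0
    refine ⟨∑ i, z i • b i, ?_, by rw [← hf, hz0]⟩
    intro h
    apply hz
    funext i
    exact (Fintype.linearIndependent_iff.1 b.linearIndependent z h i)
  by_cases hx0 : x = 0
  · apply key y _ hy
    rintro rfl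
    exact hxy (by simp [hx0])
  · exact key x hx0 hx
/-- Left-separating polar form, in unfolded form. -/
def ND (Q : QuadraticForm F V) : Prop := ∀ v, (∀ w, polar Q v w = 0) → v = 0

theorem nd_of_nondegenerate {Q : QuadraticForm F V} (h : (polarBilin Q).Nondegenerate) : ND Q :=
  fun v hv => h.1 v hv

theorem polar_add_r (Q : QuadraticForm F V) (x y z : V) : polar Q x (y + z) = polar Q x y + polar Q x z :=
  polar_add_right Q x y z
theorem polar_add_l (Q : QuadraticForm F V) (x y z : V) : polar Q (x + y) z = polar Q x z + polar Q y z :=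
  polar_add_left Q x y z
theorem polar_smul_r (Q : QuadraticForm F V) (a : F) (x y : V) : polar Q x (a • y) = a * polar Q x y :=
  polar_smul_right Q a x y
theorem polar_smul_l (Q : QuadraticForm F V) (a : F) (x y : V) : polar Q (a • x) y = a * polar Q x y :=
  polar_smul_left Q a x y
theorem polar_self' (Q : QuadraticForm F V) (x : V) : polar Q x x = 2 * Q x := by
  simp
theorem map_add' (Q : QuadraticForm F V) (x y : V) : Q (x + y) = Q x + Q y + polar Q x y := by
  unfold polar; ring
theorem map_smul' (Q : QuadraticForm F V) (a : F) (x : V) : Q (a • x) = a * a * Q x := by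
  rw [QuadraticMap.map_smul]; rfl

theorem polar_comp_subtype (Q : QuadraticForm F V) (W : Submodule F V) (x y : W) :
    polar (Q.comp W.subtype) x y = polar Q (x : V) (y : V) := rfl

theorem exists_partner {Q : QuadraticForm F V} (hQ : ND Q) {e : V} (he : e ≠ 0) (hqe : Q e = 0) :
    ∃ f, Q f = 0 ∧ polar Q e f = 1 := by
  have : ∃ w, polar Q e w ≠ 0 := by
    by_contra h
    push Not at h
    exact he (hQ e h)
  obtain ⟨w, hw⟩ := this
  obtain ⟨w', h1⟩ : ∃ w', polar Q e w' = 1 :=
    ⟨(polar Q e w)⁻¹ • w, by rw [polar_smul_r, inv_mul_cancel₀ hw]⟩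
  refine ⟨w' + (-Q w') • e, ?_, ?_⟩
  · rw [map_add', map_smul', hqe, polar_smul_r, polar_comm, h1]; ring
  · rw [polar_add_r, polar_smul_r, polar_self', hqe, h1]; ring

/-- The orthogonal complement of a pair of vectors. -/
def perp2 (Q : QuadraticForm F V) (e f : V) : Submodule F V :=
  LinearMap.ker (polarBilin Q e) ⊓ LinearMap.ker (polarBilin Q f)

theorem mem_perp2 {Q : QuadraticForm F V} {e f v : V} :
    v ∈ perp2 Q e f ↔ polar Q e v = 0 ∧ polar Q f v = 0 := by
  simp [perp2]

theorem proj_mem_perp2 {Q : QuadraticForm F V} {e f : V} (hqe : Q e = 0) (hqf : Q f = 0)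
    (hef : polar Q e f = 1) (v : V) :
    v + (-polar Q f v) • e + (-polar Q e v) • f ∈ perp2 Q e f := by
  rw [mem_perp2]
  constructor
  · rw [polar_add_r, polar_add_r, polar_smul_r, polar_smul_r, polar_self', hqe, hef]; ring
  · rw [polar_add_r, polar_add_r, polar_smul_r, polar_smul_r, polar_self', hqf, polar_comm Q f e, hef]; ring

theorem nd_perp2 {Q : QuadraticForm F V} (hQ : ND Q) {e f : V} (hqe : Q e = 0) (hqf : Q f = 0)
    (hef : polar Q e f = 1) : ND (Q.comp (perp2 Q e f).subtype) := by
  intro w hw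
  apply Subtype.ext
  apply hQ
  intro v
  have h1 := hw ⟨_, proj_mem_perp2 hqe hqf hef v⟩
  have h2 : polar Q (w : V) (v + (-polar Q f v) • e + (-polar Q e v) • f) = 0 := h1
  obtain ⟨h3, h4⟩ := mem_perp2.1 w.2
  rw [polar_add_r, polar_add_r, polar_smul_r, polar_smul_r, polar_comm Q _ e, polar_comm Q _ f, h3, h4] at h2
  simpa using h2

theorem finrank_perp2 [FiniteDimensional F V] {Q : QuadraticForm F V} {e f : V} (hqe : Q e = 0) (hqf : Q f = 0)
    (hef : polar Q e f = 1) : Module.finrank F (perp2 Q e f) + 2 = Module.finrank F V := by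
  let φ : V →ₗ[F] (F × F) := (polarBilin Q e).prod (polarBilin Q f)
  have hker : LinearMap.ker φ = perp2 Q e f := by
    ext v; simp [φ, perp2, LinearMap.mem_ker]
  have hsurj : LinearMap.range φ = ⊤ := by
    rw [LinearMap.range_eq_top]
    rintro ⟨a, b⟩
    refine ⟨a • f + b • e, ?_⟩
    have h1 : polar Q e (a • f + b • e) = a := by
      rw [polar_add_r, polar_smul_r, polar_smul_r, polar_self', hqe, hef]; ring
    have h2 : polar Q f (a • f + b • e) = b := by
      rw [polar_add_r, polar_smul_r, polar_smul_r, polar_self', hqf, polar_comm Q f e, hef]; ring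
    exact Prod.ext h1 h2
  have := LinearMap.finrank_range_add_finrank_ker φ
  rw [hsurj, hker, finrank_top, Module.finrank_prod, Module.finrank_self] at this
  omega

structure IsHypFam (Q : QuadraticForm F V) {k : ℕ} (e f : Fin k → V) : Prop where
  qe : ∀ i, Q (e i) = 0
  qf : ∀ i, Q (f i) = 0
  ef : ∀ i j, polar Q (e i) (f j) = if i = j then 1 else 0
  ee : ∀ i j, polar Q (e i) (e j) = 0
  ff : ∀ i j, polar Q (f i) (f j) = 0

theorem witt [FiniteDimensional F V] (Q : QuadraticForm F V) (hQ : ND Q) :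
    ∃ (k : ℕ) (e f : Fin k → V) (W : Submodule F V), IsHypFam Q e f ∧
      (∀ w ∈ W, ∀ i, polar Q (e i) w = 0 ∧ polar Q (f i) w = 0) ∧
      Module.finrank F W + 2 * k = Module.finrank F V ∧
      (∀ w ∈ W, Q w = 0 → w = 0) ∧ (∀ w ∈ W, (∀ w' ∈ W, polar Q w w' = 0) → w = 0) := by
  induction hn : Module.finrank F V using Nat.strong_induction_on generalizing V with
  | _ n ih =>
    by_cases h : ∃ v : V, v ≠ 0 ∧ Q v = 0
    · obtain ⟨e0, he0, hqe⟩ := h
      obtain ⟨f0, hqf, hef⟩ := exists_partner hQ he0 hqe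
      have hfr := finrank_perp2 hqe hqf hef
      obtain ⟨k, e', f', W', hH, hperp, hfin, hani, hnd⟩ :=
        ih (Module.finrank F (perp2 Q e0 f0)) (by omega) (Q.comp (perp2 Q e0 f0).subtype)
          (nd_perp2 hQ hqe hqf hef) rfl
      refine ⟨k + 1, Fin.cons e0 (fun i => (e' i : V)), Fin.cons f0 (fun i => (f' i : V)),
        W'.map (perp2 Q e0 f0).subtype, ⟨?_, ?_, ?_, ?_, ?_⟩, ?_, ?_, ?_, ?_⟩
      · intro i
        refine Fin.cases ?_ (fun i => ?_) i
        · simpa using hqe
        · simpa using hH.qe i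
      · intro i
        refine Fin.cases ?_ (fun i => ?_) i
        · simpa using hqf
        · simpa using hH.qf i
      · intro i j
        refine Fin.cases ?_ (fun i => ?_) i <;> refine Fin.cases ?_ (fun j => ?_) j
        · simpa using hef
        · simpa [(Fin.succ_ne_zero j).symm] using (mem_perp2.1 (f' j).2).1
        · rw [polar_comm]
          simpa [Fin.succ_ne_zero i] using (mem_perp2.1 (e' i).2).2
        · simpa [Fin.succ_inj, polar_comp_subtype] using hH.ef i j
      · intro i j
        refine Fin.cases ?_ (fun i => ?_) i <;> refine Fin.cases ?_ (fun j => ?_) j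
        · simp [hqe]
        · simpa using (mem_perp2.1 (e' j).2).1
        · rw [polar_comm]
          simpa using (mem_perp2.1 (e' i).2).1
        · simpa [polar_comp_subtype] using hH.ee i j
      · intro i j
        refine Fin.cases ?_ (fun i => ?_) i <;> refine Fin.cases ?_ (fun j => ?_) j
        · simp [hqf]
        · simpa using (mem_perp2.1 (f' j).2).2
        · rw [polar_comm]
          simpa using (mem_perp2.1 (f' i).2).2
        · simpa [polar_comp_subtype] using hH.ff i j
      · rintro w ⟨w', hw', rfl⟩ i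
        refine Fin.cases ?_ (fun i => ?_) i
        · simpa using mem_perp2.1 w'.2
        · simpa [polar_comp_subtype] using hperp w' hw' i
      · rw [Submodule.finrank_map_subtype_eq]
        omega
      · rintro w ⟨w', hw', rfl⟩ hw
        have := hani w' hw' hw
        simp [this]
      · rintro w ⟨w', hw', rfl⟩ hw
        have := hnd w' hw' (fun w'' hw'' => hw _ ⟨w'', hw'', rfl⟩)
        simp [this]
    · push Not at h
      refine ⟨0, Fin.elim0, Fin.elim0, ⊤, ⟨fun i => i.elim0, fun i => i.elim0, fun i => i.elim0,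
        fun i => i.elim0, fun i => i.elim0⟩, fun _ _ i => i.elim0, by simp [hn], ?_, ?_⟩
      · intro w _ hw
        by_contra hw0
        exact h w hw0 hw
      · intro w _ hw
        exact hQ w (fun w' => hw w' trivial)

theorem represents [Finite F] [FiniteDimensional F V] {Q : QuadraticForm F V} (hQ : ND Q)
    (h2 : 2 ≤ Module.finrank F V) (c : F) : ∃ v, Q v = c := by
  let Q' : QuadraticForm F (V × F) := QuadraticMap.prod Q ((-c) • QuadraticMap.sq)
  have h3 : 3 ≤ Module.finrank F (V × F) := by rw [Module.finrank_prod, Module.finrank_self]; omega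
  obtain ⟨⟨v, z⟩, hne, hq⟩ := exists_singular Q' h3
  have hq' : Q v + (-c) * (z * z) = 0 := by simpa [Q'] using hq
  by_cases hz : z = 0
  · subst hz
    have hv : v ≠ 0 := by
      rintro rfl; exact hne rfl
    have hqv : Q v = 0 := by simpa using hq'
    obtain ⟨f, hf, hef⟩ := exists_partner hQ hv hqv
    exact ⟨v + c • f, by rw [map_add', map_smul', hqv, hf, polar_smul_r, hef]; ring⟩
  · refine ⟨z⁻¹ • v, ?_⟩
    rw [map_smul']
    have : Q v = c * (z * z) := by linear_combination hq'
    rw [this]; field_simp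

theorem exists_elliptic_pair [Finite F] [FiniteDimensional F V] {Q : QuadraticForm F V} (hQ : ND Q)
    (h2 : Module.finrank F V = 2) (hani : ∀ v, Q v = 0 → v = 0) :
    ∃ x y : V, LinearIndependent F ![x, y] ∧ Q x = 1 ∧ polar Q x y = 1 ∧ ∀ t : F, t ^ 2 + t + Q y ≠ 0 := by
  obtain ⟨x, hx⟩ := represents hQ h2.ge 1
  have hx0 : x ≠ 0 := by
    rintro rfl; simp at hx
  have : ∃ w, polar Q x w ≠ 0 := by
    by_contra h
    push Not at h
    exact hx0 (hQ x h)
  obtain ⟨w, hw⟩ := this
  obtain ⟨y1, h1⟩ : ∃ w', polar Q x w' = 1 :=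
    ⟨(polar Q x w)⁻¹ • w, by rw [polar_smul_r, inv_mul_cancel₀ hw]⟩
  obtain ⟨z, hz⟩ := exists_linearIndependent_pair_of_one_lt_finrank (R := F) (by omega) hx0
  obtain ⟨y, hli, hy⟩ : ∃ y, LinearIndependent F ![x, y] ∧ polar Q x y = 1 := by
    by_cases hli : LinearIndependent F ![x, y1]
    · exact ⟨y1, hli, h1⟩
    · rw [LinearIndependent.pair_iff' hx0] at hli
      push Not at hli
      obtain ⟨a, ha⟩ := hli
      refine ⟨z + (1 - polar Q x z) • y1, ?_, ?_⟩
      · rw [LinearIndependent.pair_iff' hx0] at hz ⊢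
        intro c hc
        apply hz (c - (1 - polar Q x z) * a)
        rw [← ha, smul_smul] at hc
        rw [sub_smul, hc]; abel
      · rw [polar_add_r, polar_smul_r, h1]; ring
  refine ⟨x, y, hli, hx, hy, ?_⟩
  intro t ht
  have h3 : Q (t • x + y) = 0 := by
    rw [map_add', map_smul', hx, polar_smul_l, hy]; linear_combination ht
  have h4 := hani _ h3
  have h5 := (LinearIndependent.pair_iff.1 hli t 1 (by simpa using h4)).2
  exact one_ne_zero h5

theorem li_total {Q : QuadraticForm F V} {k : ℕ} {e f : Fin k → V} (h : IsHypFam Q e f)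
    {ι : Type*} [Fintype ι] (r : ι → V) (hr : LinearIndependent F r)
    (hre : ∀ j i, polar Q (e i) (r j) = 0 ∧ polar Q (f i) (r j) = 0) :
    LinearIndependent F (Sum.elim (Sum.elim e f) r) := by
  classical
  rw [Fintype.linearIndependent_iff]
  intro g hg
  rw [Fintype.sum_sum_type, Fintype.sum_sum_type] at hg
  simp only [Sum.elim_inl, Sum.elim_inr] at hg
  have he : ∀ j, g (Sum.inl (Sum.inl j)) = 0 := by
    intro j
    have := congrArg (fun v => polarBilin Q (f j) v) hg
    simp only [map_add, map_sum, map_smul, polarBilin_apply_apply, smul_eq_mul, map_zero, h.ff,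
      (hre _ _).2, mul_zero, Finset.sum_const_zero, add_zero] at this
    simp only [polar_comm Q (f j), h.ef] at this
    simpa using this
  have hf : ∀ j, g (Sum.inl (Sum.inr j)) = 0 := by
    intro j
    have := congrArg (fun v => polarBilin Q (e j) v) hg
    simp only [map_add, map_sum, map_smul, polarBilin_apply_apply, smul_eq_mul, map_zero, h.ee,
      (hre _ _).1, mul_zero, Finset.sum_const_zero, add_zero, zero_add, h.ef] at this
    simpa using this
  have hr' : ∀ j, g (Sum.inr j) = 0 := by
    simp only [he, hf, zero_smul, Finset.sum_const_zero, zero_add] at hg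
    exact Fintype.linearIndependent_iff.1 hr _ hg
  rintro ((i | i) | i)
  · exact he i
  · exact hf i
  · exact hr' i

/-- Two quadratic forms agreeing on a basis and with the same polar values on the basis agree. -/
theorem ext_basis {ι : Type*} (b : Module.Basis ι F V) {Q Q' : QuadraticForm F V}
    (h1 : ∀ i, Q (b i) = Q' (b i)) (h2 : ∀ i j, polar Q (b i) (b j) = polar Q' (b i) (b j)) : Q = Q' := by
  have hpol : polarBilin Q = polarBilin Q' := by
    apply b.ext; intro i
    apply b.ext; intro j
    exact h2 i j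
  have hpol' : ∀ x y, polar Q x y = polar Q' x y := fun x y => by
    have := congrArg (fun B => B x y) hpol
    simpa using this
  ext v
  have hv : v ∈ Submodule.span F (Set.range b) := by rw [b.span_eq]; trivial
  induction hv using Submodule.span_induction with
  | zero => simp
  | add x y _ _ hx hy => rw [map_add', map_add', hx, hy, hpol']
  | smul c x _ hx => rw [map_smul', map_smul', hx]
  | mem x hx => obtain ⟨i, rfl⟩ := hx; exact h1 i

theorem IsHypFam.linearIndependent {Q : QuadraticForm F V} {k : ℕ} {e f : Fin k → V} (h : IsHypFam Q e f) :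
    LinearIndependent F (Sum.elim e f) := by
  have := li_total h (ι := Fin 0) Fin.elim0 (linearIndependent_empty_type) (fun j => j.elim0)
  have h2 := this.comp Sum.inl Sum.inl_injective
  rwa [Sum.elim_comp_inl] at h2

theorem witt_finite [Finite F] [FiniteDimensional F V] (Q : QuadraticForm F V) (hQ : ND Q) :
    ∃ (k : ℕ) (e f : Fin k → V) (W : Submodule F V), IsHypFam Q e f ∧
      (∀ w ∈ W, ∀ i, polar Q (e i) w = 0 ∧ polar Q (f i) w = 0) ∧
      Module.finrank F W + 2 * k = Module.finrank F V ∧
      (∀ w ∈ W, Q w = 0 → w = 0) ∧ (∀ w ∈ W, (∀ w' ∈ W, polar Q w w' = 0) → w = 0) ∧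
      Module.finrank F W ≤ 2 := by
  obtain ⟨k, e, f, W, h1, h2, h3, h4, h5⟩ := witt Q hQ
  refine ⟨k, e, f, W, h1, h2, h3, h4, h5, ?_⟩
  by_contra hlt
  obtain ⟨v, hv, hqv⟩ := exists_singular (Q.comp W.subtype) (by omega)
  exact hv (Subtype.ext (h4 v v.2 hqv))

/-- Even dimension: hyperbolic or elliptic family. -/
theorem even_dim [Finite F] [FiniteDimensional F V] (Q : QuadraticForm F V) (hQ : ND Q) {m : ℕ}
    (hV : Module.finrank F V = 2 * m) :
    (∃ e f : Fin m → V, IsHypFam Q e f) ∨
    (1 ≤ m ∧ ∃ (e f : Fin (m - 1) → V) (x y : V), IsHypFam Q e f ∧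
      (∀ i, polar Q (e i) x = 0 ∧ polar Q (f i) x = 0) ∧ (∀ i, polar Q (e i) y = 0 ∧ polar Q (f i) y = 0) ∧
      LinearIndependent F ![x, y] ∧ Q x = 1 ∧ polar Q x y = 1 ∧ ∀ t : F, t ^ 2 + t + Q y ≠ 0) := by
  obtain ⟨k, e, f, W, h1, h2, h3, h4, h5, h6⟩ := witt_finite Q hQ
  have hcases : Module.finrank F W = 0 ∨ Module.finrank F W = 2 := by omega
  rcases hcases with h0 | h0
  · left
    obtain rfl : k = m := by omega
    exact ⟨e, f, h1⟩
  · right
    obtain rfl : k = m - 1 := by omega
    refine ⟨by omega, ?_⟩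
    have hnd : ND (Q.comp W.subtype) := by
      intro w hw
      exact Subtype.ext (h5 w w.2 (fun w' hw' => hw ⟨w', hw'⟩))
    obtain ⟨x, y, hli, hx, hxy, ht⟩ := exists_elliptic_pair hnd h0
      (fun v hv => Subtype.ext (h4 v v.2 hv))
    refine ⟨e, f, x, y, h1, h2 x x.2, h2 y y.2, ?_, hx, hxy, ht⟩
    have := hli.map' W.subtype (Submodule.ker_subtype W)
    have heq : (⇑W.subtype ∘ ![x, y]) = ![(x : V), (y : V)] := by
      ext i; fin_cases i <;> rfl
    rwa [heq] at this

/-- Odd dimension: hyperbolic family plus a nonsingular vector. -/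
theorem odd_dim [Finite F] [FiniteDimensional F V] (Q : QuadraticForm F V) (hQ : ND Q) {m : ℕ}
    (hV : Module.finrank F V = 2 * m + 1) :
    ∃ (e f : Fin m → V) (x : V), IsHypFam Q e f ∧
      (∀ i, polar Q (e i) x = 0 ∧ polar Q (f i) x = 0) ∧ Q x ≠ 0 := by
  obtain ⟨k, e, f, W, h1, h2, h3, h4, h5, h6⟩ := witt_finite Q hQ
  have h0 : Module.finrank F W = 1 := by omega
  obtain rfl : k = m := by omega
  have : Nontrivial W := Module.nontrivial_of_finrank_pos (R := F) (by omega)
  obtain ⟨x, hx⟩ := exists_ne (0 : W)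
  refine ⟨e, f, x, h1, h2 x x.2, ?_⟩
  intro hq
  exact hx (Subtype.ext (h4 x x.2 hq))

end Cfsg.Agent.Lib.Helper4.QuadFin
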