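import Mathlib
import Cfsg.Agent.Lib.Helper4.PSL2Spec
import Cfsg.Agent.Lib.Helper4.QuadFin

set_option autoImplicit false

namespace Cfsg.Agent.Lib.Helper4.SL2Prod

open Matrix Cfsg.Agent.Lib.Helper4.SL2Eigen Cfsg.Agent.Lib.Helper4.SL2Conj Cfsg.Agent.Lib.Helper4.GL2Conj
  Cfsg.Agent.Lib.Helper4.PSL2Spec

variable {F : Type*} [Field F]

/-- fixed points of the `q`-Frobenius in an extension of `F_q` lie in `F_q`. -/
theorem mem_range_of_pow_card [Fintype F] {K : Type*} [Field K] (ι : F →+* K) (x : K)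
    (hx : x ^ Fintype.card F = x) : x ∈ Set.range ι := by
  classical
  set q := Fintype.card F with hq
  have hq1 : 1 < q := Fintype.one_lt_card
  let P : Polynomial K := Polynomial.X ^ q - Polynomial.X
  have hP0 : P ≠ 0 := FiniteField.X_pow_card_sub_X_ne_zero K hq1
  have hdeg : P.natDegree = q := FiniteField.X_pow_card_sub_X_natDegree_eq K hq1
  let S : Finset K := Finset.univ.image ι
  have hS : S.card = q := by
    rw [Finset.card_image_of_injective _ ι.injective, Finset.card_univ]
  have hsub : S ⊆ P.roots.toFinset := by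
    intro y hy
    obtain ⟨a, -, rfl⟩ := Finset.mem_image.1 hy
    rw [Multiset.mem_toFinset, Polynomial.mem_roots hP0]
    simp only [P, Polynomial.IsRoot, Polynomial.eval_sub, Polynomial.eval_pow, Polynomial.eval_X]
    rw [← map_pow, hq, FiniteField.pow_card, sub_self]
  have hle : P.roots.toFinset.card ≤ S.card := by
    rw [hS, ← hdeg]
    exact (Multiset.toFinset_card_le _).trans (Polynomial.card_roots' P)
  have heq := Finset.eq_of_subset_of_card_le hsub hle
  have hxr : x ∈ P.roots.toFinset := by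
    rw [Multiset.mem_toFinset, Polynomial.mem_roots hP0]
    simp only [P, Polynomial.IsRoot, Polynomial.eval_sub, Polynomial.eval_pow, Polynomial.eval_X]
    rw [hx, sub_self]
  rw [← heq] at hxr
  obtain ⟨a, -, ha⟩ := Finset.mem_image.1 hxr
  exact ⟨a, ha⟩

/-- an element of order dividing `q - 1` has its eigenvalues in `F`. -/
theorem exists_eigen_of_pow [Fintype F] (g : SpecialLinearGroup (Fin 2) F)
    (hg : g ^ (Fintype.card F - 1) = 1) : ∃ a : F, a ≠ 0 ∧ g.1.trace = a + a⁻¹ := by
  classical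
  let K := AlgebraicClosure F
  let ι : F →+* K := algebraMap F K
  obtain ⟨lam, hlam⟩ := Module.End.exists_eigenvalue (K := K) (Matrix.toLin' (g.1.map ι))
  obtain ⟨v, hv⟩ := hlam.exists_hasEigenvector
  have hv0 : v ≠ 0 := hv.2
  have hgv : (g.1.map ι) *ᵥ v = lam • v := by
    have := hv.apply_eq_smul
    rwa [Matrix.toLin'_apply] at this
  have hd := g.2
  rw [Matrix.det_fin_two] at hd
  have hd' := congrArg ι hd
  simp only [map_sub, map_mul, map_one] at hd'
  have hquad : lam ^ 2 - ι g.1.trace * lam + 1 = 0 := by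
    have hdet : (g.1.map ι - lam • 1).det = 0 := by
      rw [← Matrix.exists_mulVec_eq_zero_iff]
      exact ⟨v, hv0, by rw [Matrix.sub_mulVec, hgv, Matrix.smul_mulVec, Matrix.one_mulVec, sub_self]⟩
    rw [Matrix.det_fin_two] at hdet
    simp at hdet
    rw [Matrix.trace_fin_two, map_add]
    linear_combination hdet - hd'
  have hlam0 : lam ≠ 0 := by
    rintro rfl
    simp at hquad
  have h1 := map_pow_mulVec ι g v lam hgv (Fintype.card F - 1)
  rw [hg] at h1
  have h2 : lam ^ (Fintype.card F - 1) = 1 := by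
    have h3 : ((1 : SpecialLinearGroup (Fin 2) F).1.map ι) *ᵥ v = v := by
      have : (1 : SpecialLinearGroup (Fin 2) F).1.map ι = 1 := by
        change (1 : Matrix (Fin 2) (Fin 2) F).map ι = 1
        simp
      rw [this, Matrix.one_mulVec]
    rw [h3] at h1
    have : (lam ^ (Fintype.card F - 1) - 1) • v = 0 := by rw [sub_smul, ← h1, one_smul, sub_self]
    rcases smul_eq_zero.1 this with h | h
    · exact sub_eq_zero.1 h
    · exact absurd h hv0
  have h3 : lam ^ Fintype.card F = lam := by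
    have hpos : 1 ≤ Fintype.card F := Fintype.card_pos
    calc lam ^ Fintype.card F = lam ^ (Fintype.card F - 1) * lam := by
          rw [← pow_succ, Nat.sub_add_cancel hpos]
      _ = lam := by rw [h2, one_mul]
  obtain ⟨a, ha⟩ := mem_range_of_pow_card ι lam h3
  have ha0 : a ≠ 0 := by
    rintro rfl
    rw [map_zero] at ha
    exact hlam0 ha.symm
  refine ⟨a, ha0, ?_⟩
  apply ι.injective
  rw [map_add, map_inv₀, ha]
  have hinv : lam * lam⁻¹ = 1 := mul_inv_cancel₀ hlam0
  linear_combination (-lam⁻¹) * hquad + (lam - ι g.1.trace) * hinv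

/-- semisimple classes of `SL₂(q)` are determined by the trace -/
theorem isConj_compSL_of_trace [Finite F] (g : SpecialLinearGroup (Fin 2) F) (h : g.1.trace ^ 2 ≠ 4) :
    IsConj g (compSL g.1.trace) := by
  classical
  let p : Fin 2 → ((Fin 2 → F) →ₗ[F] F) := fun i => LinearMap.proj i
  let Q : QuadraticForm F (Fin 2 → F) :=
    (g.1 1 0) • QuadraticMap.linMulLin (p 0) (p 0) + (g.1 1 1 - g.1 0 0) • QuadraticMap.linMulLin (p 0) (p 1)
      + (-(g.1 0 1)) • QuadraticMap.linMulLin (p 1) (p 1)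
  have hQ : ∀ v, Q v = (cyc g.1 (v 0) (v 1)).det := by
    intro v
    rw [det_cyc]
    simp [Q, p]
    ring
  have hd := g.2
  rw [Matrix.det_fin_two] at hd
  rw [Matrix.trace_fin_two] at h
  have hND : QuadFin.ND Q := by
    intro u hu
    have h0 := hu (Pi.single 0 1)
    have h1 := hu (Pi.single 1 1)
    unfold QuadraticMap.polar at h0 h1
    simp only [hQ, det_cyc] at h0 h1
    simp at h0 h1
    have hdisc : (g.1 0 0 + g.1 1 1) ^ 2 - 4 ≠ 0 := sub_ne_zero.2 h
    have e0 : ((g.1 0 0 + g.1 1 1) ^ 2 - 4) * u 0 = 0 := by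
      linear_combination (2 * g.1 0 1) * h0 + (g.1 1 1 - g.1 0 0) * h1 + 4 * u 0 * hd
    have e1 : ((g.1 0 0 + g.1 1 1) ^ 2 - 4) * u 1 = 0 := by
      linear_combination (g.1 1 1 - g.1 0 0) * h0 - (2 * g.1 1 0) * h1 + 4 * u 1 * hd
    funext i
    fin_cases i
    · exact (mul_eq_zero.1 e0).resolve_left hdisc
    · exact (mul_eq_zero.1 e1).resolve_left hdisc
  obtain ⟨v, hv⟩ := QuadFin.represents hND (by simp) 1
  apply isConj_compSL_of_sq g (v 0) (v 1) 1
  rw [← hQ, hv]; simp

theorem prod_conj {G : Type*} [Group G] {x A B g : G} (hA : IsConj x A) (hB : IsConj x B)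
    (hg : IsConj (A * B) g) : ∃ u v : G, g = (u * x * u⁻¹) * (v * x * v⁻¹) := by
  obtain ⟨a, rfl⟩ := isConj_iff.1 hA
  obtain ⟨b, rfl⟩ := isConj_iff.1 hB
  obtain ⟨c, rfl⟩ := isConj_iff.1 hg
  refine ⟨c * a, c * b, ?_⟩
  group

end Cfsg.Agent.Lib.Helper4.SL2Prod
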